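/-
Transvections of an overgroup in `GL₃(F)`: centres, axes and flags.
Main results:
* `flag` : a centre on an axis is a flag of the group
* `sl_le_of_all` : if every point is a centre and every line is an axis, the group contains `SL₃`
-/
import Cfsg.Agent.Lib.Transvect.Basic
import Cfsg.Agent.Lib.C5.Linear

set_option autoImplicit false
set_option linter.unusedSectionVars false

namespace Cfsg.Agent.SL3Max

open Cfsg.Agent.Transvect Module

variable {F : Type*} [Field F]

/-- `F³`. -/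
abbrev V3 (F : Type*) := Fin 3 → F

/-- A line of the plane, as a linear functional. -/
abbrev D3 (F : Type*) [Field F] := (Fin 3 → F) →ₗ[F] F

/-- `c` is the centre of a transvection of `M`. -/
def Cen (M : Subgroup (GL (Fin 3) F)) (c : V3 F) : Prop :=
  c ≠ 0 ∧ ∃ φ : D3 F, φ ≠ 0 ∧ φ c = 0 ∧ tv c φ ∈ M

/-- `φ` is the axis of a transvection of `M`. -/
def Axis (M : Subgroup (GL (Fin 3) F)) (φ : D3 F) : Prop :=
  φ ≠ 0 ∧ ∃ c : V3 F, c ≠ 0 ∧ φ c = 0 ∧ tv c φ ∈ M

lemma ker_eq_span {φ : D3 F} (hφ : φ ≠ 0) {c d : V3 F} (hc : c ≠ 0) (hd : d ∉ F ∙ c)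
    (hφc : φ c = 0) (hφd : φ d = 0) : LinearMap.ker φ = Submodule.span F {c, d} := by
  have hle : Submodule.span F {c, d} ≤ LinearMap.ker φ := by
    rw [Submodule.span_le]; rintro x (rfl | rfl) <;> simpa
  refine (Submodule.eq_of_le_of_finrank_le hle ?_).symm
  have h2 : finrank F (Submodule.span F ({c, d} : Set (V3 F))) = 2 := by
    have hli : LinearIndependent F ![c, d] := by
      rw [LinearIndependent.pair_iff' hc]
      exact fun a h => hd (Submodule.mem_span_singleton.2 ⟨a, h⟩)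
    have := finrank_span_eq_card hli
    rw [show Set.range ![c, d] = ({c, d} : Set (V3 F)) by
      ext x; simp [Matrix.range_cons, Matrix.range_empty]; tauto] at this
    simpa using this
  have h3 := LinearMap.finrank_range_add_finrank_ker φ
  rw [LinearMap.range_eq_top.2 (LinearMap.surjective hφ), finrank_top, finrank_self] at h3
  have h4 : finrank F (V3 F) = 3 := by simp
  rw [h4] at h3
  exact le_trans (show finrank F (LinearMap.ker φ) ≤ 2 by omega) h2.ge

/-- Two lines through two distinct points are equal. -/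
lemma line_unique {φ ψ : D3 F} (hφ : φ ≠ 0) {c d : V3 F} (hc : c ≠ 0) (hd : d ∉ F ∙ c)
    (hφc : φ c = 0) (hφd : φ d = 0) (hψc : ψ c = 0) (hψd : ψ d = 0) :
    ∃ a : F, ψ = a • φ := by
  obtain ⟨e, he⟩ := LinearMap.surjective hφ 1
  refine ⟨ψ e, LinearMap.ext fun x => ?_⟩
  have h : x - φ x • e ∈ LinearMap.ker φ := by simp [he]
  rw [ker_eq_span hφ hc hd hφc hφd] at h
  obtain ⟨a, b, hab⟩ := Submodule.mem_span_pair.1 h
  have h1 := congrArg ψ hab
  simp only [map_add, map_smul, map_sub, hψc, hψd, smul_zero, add_zero, smul_eq_mul] at h1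
  simp only [LinearMap.smul_apply, smul_eq_mul]
  linear_combination -h1

variable {M : Subgroup (GL (Fin 3) F)}

/-- A centre on an axis forms a flag. -/
lemma flag {c : V3 F} {φ : D3 F} (hc : Cen M c) (hφ : Axis M φ) (h : φ c = 0) :
    ∃ a : F, a ≠ 0 ∧ tv c (a • φ) ∈ M := by
  obtain ⟨hc0, ψ, hψ0, hψc, hψ⟩ := hc
  obtain ⟨hφ0, d, hd0, hφd, hd⟩ := hφ
  by_cases hcd : d ∈ F ∙ c
  · obtain ⟨k, rfl⟩ := Submodule.mem_span_singleton.1 hcd
    have hk : k ≠ 0 := fun hk => hd0 (by rw [hk, zero_smul])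
    rw [tv_smul h] at hd
    exact ⟨k, hk, hd⟩
  by_cases hψd : ψ d = 0
  · obtain ⟨a, ha⟩ := line_unique hφ0 hc0 hcd h hφd hψc hψd
    have ha0 : a ≠ 0 := fun ha0 => hψ0 (by rw [ha, ha0, zero_smul])
    exact ⟨a, ha0, ha ▸ hψ⟩
  · exact ⟨ψ d, hψd, C5.tv_comm_mem hψc hφd h hψ hd⟩

lemma Cen.smul {c : V3 F} (h : Cen M c) {a : F} (ha : a ≠ 0) : Cen M (a • c) := by
  obtain ⟨hc0, φ, hφ0, hφc, hφ⟩ := h
  refine ⟨smul_ne_zero ha hc0, a⁻¹ • φ, smul_ne_zero (inv_ne_zero ha) hφ0, by simp [hφc], ?_⟩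
  rw [tv_smul (by simp [hφc]), smul_smul, mul_inv_cancel₀ ha, one_smul]
  exact hφ

lemma Axis.smul {φ : D3 F} (h : Axis M φ) {a : F} (ha : a ≠ 0) : Axis M (a • φ) := by
  obtain ⟨hφ0, c, hc0, hφc, hc⟩ := h
  refine ⟨smul_ne_zero ha hφ0, a⁻¹ • c, smul_ne_zero (inv_ne_zero ha) hc0, by simp [hφc], ?_⟩
  rw [tv_smul (by simp [hφc]), smul_smul, inv_mul_cancel₀ ha, one_smul]
  exact hc

lemma comp_inv_ne_zero {φ : D3 F} (h : φ ≠ 0) (g : GL (Fin 3) F) :
    φ ∘ₗ (app g⁻¹).toLinearMap ≠ 0 := fun h0 => h (LinearMap.ext fun x => by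
  have h1 := LinearMap.congr_fun h0 (app g x)
  rwa [LinearMap.comp_apply, LinearEquiv.coe_coe, app_inv_app] at h1)

lemma Cen.conj {c : V3 F} (h : Cen M c) {g : GL (Fin 3) F} (hg : g ∈ M) : Cen M (app g c) := by
  obtain ⟨hc0, φ, hφ0, hφc, hφ⟩ := h
  refine ⟨(app g).map_ne_zero_iff.2 hc0, _, comp_inv_ne_zero hφ0 g, C5.comp_inv_app φ g c ▸ hφc, ?_⟩
  rw [← tv_conj hφc]
  exact mul_mem (mul_mem hg hφ) (inv_mem hg)

lemma Axis.conj {φ : D3 F} (h : Axis M φ) {g : GL (Fin 3) F} (hg : g ∈ M) :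
    Axis M (φ ∘ₗ (app g⁻¹).toLinearMap) := by
  obtain ⟨hφ0, c, hc0, hφc, hc⟩ := h
  refine ⟨comp_inv_ne_zero hφ0 g, app g c, (app g).map_ne_zero_iff.2 hc0, C5.comp_inv_app φ g c ▸ hφc, ?_⟩
  rw [← tv_conj hφc]
  exact mul_mem (mul_mem hg hc) (inv_mem hg)

section full

variable [Fintype F] (hC : ∀ c : V3 F, c ≠ 0 → Cen M c) (hA : ∀ φ : D3 F, φ ≠ 0 → Axis M φ)
include hC hA

/-- All root groups at coordinate frames are whole. -/
lemma elem_mem_of_all {i j k : Fin 3} (hij : i ≠ j) (hik : i ≠ k) (hjk : j ≠ k) (c : F) :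
    elem i k c ∈ M := by
  classical
  let p : Fin 3 → D3 F := fun l => LinearMap.proj l
  have hp : ∀ {l m : Fin 3}, l ≠ m → p l (Pi.single m 1) = 0 := fun h => by simp [p, h]
  have hp0 : ∀ {l : Fin 3}, p l ≠ 0 := fun {l} h => by
    simpa [p] using LinearMap.congr_fun h (Pi.single l 1)
  have he0 : ∀ l : Fin 3, (Pi.single l 1 : V3 F) ≠ 0 := fun l h => by simpa using congrFun h l
  let S : Fin 3 → Fin 3 → F → Prop := fun l m x => tv (Pi.single l 1) (x • p m) ∈ M
  have hmul : ∀ {l m n : Fin 3} {x y : F}, l ≠ m → m ≠ n → l ≠ n → S l m x → S m n y →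
      S l n (x * y) := by
    intro l m n x y hlm hmn hln hx hy
    have h1 := C5.tv_comm_mem (α := x • p m) (β := y • p n) (by simp [hp hlm.symm])
      (by simp [hp hmn.symm]) (by simp [hp hln.symm]) hx hy
    rw [LinearMap.smul_apply, show p m (Pi.single m 1) = 1 by simp [p], smul_eq_mul, mul_one,
      smul_smul] at h1
    exact h1
  have hne : ∀ {l m : Fin 3}, l ≠ m → ∃ x, x ≠ 0 ∧ S l m x := fun h =>
    flag (hC _ (he0 _)) (hA _ hp0) (hp h.symm)
  obtain ⟨u, hu0, hu⟩ := hne hjk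
  obtain ⟨w, hw0, hw⟩ := hne hjk.symm
  obtain ⟨r, hr0, hr⟩ := hne hik.symm
  set f := r * w * u with hf
  have hf0 : f ≠ 0 := mul_ne_zero (mul_ne_zero hr0 hw0) hu0
  let T : Set F := {x | S i k (f⁻¹ * x)}
  have hTmul : ∀ {x y}, x ∈ T → y ∈ T → x * y ∈ T := by
    intro x y hx hy
    have h1 : S i j (f⁻¹ * y * w) := hmul hik hjk.symm hij hy hw
    have h2 : S k j (r * (f⁻¹ * y * w)) := hmul hik.symm hij hjk.symm hr h1
    have h3 : S i j (f⁻¹ * x * (r * (f⁻¹ * y * w))) := hmul hik hjk.symm hij hx h2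
    have h4 := hmul hij hjk hik h3 hu
    show S i k (f⁻¹ * (x * y))
    convert h4 using 1
    rw [hf]
    field_simp
  have hTinv : ∀ {y}, y ∈ T → y ≠ 0 → y⁻¹ ∈ T := by
    intro y hy hy0
    have hpow : ∀ n : ℕ, y ^ (n + 1) ∈ T := fun n => by
      induction n with
      | zero => simpa using hy
      | succ n ih => rw [pow_succ]; exact hTmul ih hy
    have hq := Fintype.one_lt_card (α := F)
    have h1 := hpow (2 * (Fintype.card F - 1) - 2)
    convert h1 using 1
    refine (eq_inv_of_mul_eq_one_left ?_).symm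
    rw [← pow_succ, show 2 * (Fintype.card F - 1) - 2 + 1 + 1 = 2 * (Fintype.card F - 1) by omega,
      mul_comm, pow_mul, FiniteField.pow_card_sub_one_eq_one y hy0, one_pow]
  have hT : ∀ l : F, l ∈ T := by
    intro l
    rcases eq_or_ne l 0 with rfl | hl
    · show tv _ ((f⁻¹ * 0) • p k) ∈ M
      rw [mul_zero, zero_smul, tv_zero]
      exact one_mem M
    have hχ0 : p j + (l / w) • p k ≠ 0 := fun h => by
      simpa [p, hjk] using LinearMap.congr_fun h (Pi.single j 1)
    have hχ : (p j + (l / w) • p k) (Pi.single i 1) = 0 := by simp [hp hij.symm, hp hik.symm]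
    obtain ⟨a, ha0, ha⟩ := flag (hC _ (he0 i)) (hA _ hχ0) hχ
    have hb : S i k (a * u) := by
      have h1 := C5.tv_comm_mem (α := a • (p j + (l / w) • p k)) (β := u • p k)
        (by rw [LinearMap.smul_apply, hχ, smul_zero])
        (by simp [hp hjk.symm]) (by simp [hp hik.symm]) ha hu
      rw [LinearMap.smul_apply, LinearMap.add_apply, LinearMap.smul_apply, hp hjk.symm,
        show p j (Pi.single j 1) = 1 by simp [p], smul_zero, add_zero, smul_eq_mul, mul_one,
        smul_smul] at h1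
      exact h1
    have hlb : S i k (l * (a * u)) := by
      have h1 := C5.tv_comm_mem (α := a • (p j + (l / w) • p k)) (β := w • p j)
        (by rw [LinearMap.smul_apply, hχ, smul_zero])
        (by simp [hp hjk]) (by simp [hp hij.symm]) ha hw
      rw [LinearMap.smul_apply, LinearMap.add_apply, LinearMap.smul_apply, hp hjk,
        show p k (Pi.single k 1) = 1 by simp [p], zero_add, smul_eq_mul, smul_eq_mul, mul_one,
        smul_smul, show a * (l / w) * w = a * l by field_simp] at h1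
      have h2 := hmul hij hjk hik h1 hu
      convert h2 using 1
      ring
    have h3 : f * (a * u) ∈ T := by
      show S i k _
      rwa [← mul_assoc f⁻¹, inv_mul_cancel₀ hf0, one_mul]
    have h4 : f * (l * (a * u)) ∈ T := by
      show S i k _
      rwa [← mul_assoc f⁻¹, inv_mul_cancel₀ hf0, one_mul]
    have h5 := hTmul h4 (hTinv h3 (mul_ne_zero hf0 (mul_ne_zero ha0 hu0)))
    convert h5 using 1
    field_simp
  have := hT (f * c)
  change S i k (f⁻¹ * (f * c)) at this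
  rwa [← mul_assoc, inv_mul_cancel₀ hf0, one_mul] at this

/-- Every point a centre and every line an axis: everything. -/
theorem sl_le_of_all : Cfsg.Geo.specialLinear (Fin 3) F ≤ M := by
  refine C5.sl_le_of_elem M fun i k hik c => ?_
  obtain ⟨j, hij, hjk⟩ : ∃ j : Fin 3, i ≠ j ∧ j ≠ k := by
    revert i k; decide
  exact elem_mem_of_all hC hA hij hik hjk c

end full

end Cfsg.Agent.SL3Max
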