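/-
Involutory homologies of determinant one.
Main results:
* `hml`, `hml_conj`
* `hml_unique` : without transvections a centre has one axis
-/
import Cfsg.Agent.Lib.SL3Max.Flags

set_option autoImplicit false
set_option linter.unusedSectionVars false

namespace Cfsg.Agent.SL3Max

open Cfsg.Agent.Transvect Module Matrix

variable {F : Type*} [Field F]

lemma neg_tmat_mulVec (c : V3 F) (φ : D3 F) (x : V3 F) :
    (-tmat c (-φ)) *ᵥ x = -x + φ x • c := by
  rw [Matrix.neg_mulVec, tmat_mulVec, LinearMap.neg_apply, neg_smul, neg_add, neg_neg]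

open Classical in
/-- The homology `x ↦ -x + φ(x) c` (junk value 1 unless `φ c = 2`). -/
noncomputable def hml (c : V3 F) (φ : D3 F) : GL (Fin 3) F :=
  if h : φ c = 2 then
    ⟨-tmat c (-φ), -tmat c (-φ),
      Matrix.ext_of_mulVec_single fun i => by
        rw [← Matrix.mulVec_mulVec, neg_tmat_mulVec, neg_tmat_mulVec, Matrix.one_mulVec, map_add,
          map_neg, map_smul, h, smul_eq_mul]
        module,
      Matrix.ext_of_mulVec_single fun i => by
        rw [← Matrix.mulVec_mulVec, neg_tmat_mulVec, neg_tmat_mulVec, Matrix.one_mulVec, map_add,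
          map_neg, map_smul, h, smul_eq_mul]
        module⟩
  else 1

lemma hml_apply {c : V3 F} {φ : D3 F} (h : φ c = 2) (x : V3 F) :
    app (hml c φ) x = -x + φ x • c := by
  rw [app_apply, hml, dif_pos h, neg_tmat_mulVec]

lemma hml_mem_sl (c : V3 F) (φ : D3 F) : hml c φ ∈ Cfsg.Geo.specialLinear (Fin 3) F := by
  by_cases h : φ c = 2
  · have hx : (fun j => (-φ : D3 F) (Pi.single j 1)) ⬝ᵥ c = (-φ : D3 F) c := by
      conv_rhs => rw [pi_eq_sum_univ' c, map_sum]
      simp [dotProduct, mul_comm]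
    rw [mem_sl_iff, hml, dif_pos h]
    show (-tmat c (-φ)).det = 1
    rw [Matrix.det_neg, tmat, Matrix.vecMulVec_eq Unit,
      Matrix.det_one_add_replicateCol_mul_replicateRow, hx, LinearMap.neg_apply, h, Fintype.card_fin]
    ring
  · rw [hml, dif_neg h]; exact one_mem _

lemma hml_inv {c : V3 F} {φ : D3 F} (h : φ c = 2) : (hml c φ)⁻¹ = hml c φ :=
  inv_eq_of_mul_eq_one_right (gl_ext fun x => by
    rw [map_mul, LinearEquiv.mul_apply, hml_apply h, hml_apply h, map_one, LinearEquiv.coe_one,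
      id, map_add, map_neg, map_smul, h, smul_eq_mul]
    module)

lemma hml_neg {c : V3 F} {φ : D3 F} (h : φ c = 2) : hml (-c) (-φ) = hml c φ :=
  gl_ext fun x => by
    rw [hml_apply h, hml_apply (by simp [h])]
    simp

lemma hml_conj {c : V3 F} {φ : D3 F} (h : φ c = 2) (g : GL (Fin 3) F) :
    g * hml c φ * g⁻¹ = hml (app g c) (φ ∘ₗ (app g⁻¹).toLinearMap) := by
  refine gl_ext fun x => ?_
  rw [hml_apply ((C5.comp_inv_app φ g c).trans h), map_mul, map_mul, LinearEquiv.mul_apply,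
    LinearEquiv.mul_apply, hml_apply h, map_add, map_neg, map_smul, app_app_inv]
  rfl

lemma hml_mul {c : V3 F} {φ ψ : D3 F} (hφ : φ c = 2) (hψ : ψ c = 2) :
    hml c φ * hml c ψ = tv c (ψ - φ) := by
  refine gl_ext fun x => ?_
  rw [map_mul, LinearEquiv.mul_apply, hml_apply hψ, hml_apply hφ, tv_apply (by simp [hφ, hψ]),
    map_add, map_neg, map_smul, hφ, smul_eq_mul, LinearMap.sub_apply]
  module

/-- Without transvections a centre has one axis. -/
lemma hml_unique {M : Subgroup (GL (Fin 3) F)} (hM : ∀ c, ¬ Cen M c) {c : V3 F} (hc : c ≠ 0)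
    {φ ψ : D3 F} (hφ : φ c = 2) (hψ : ψ c = 2) (h1 : hml c φ ∈ M) (h2 : hml c ψ ∈ M) : φ = ψ := by
  by_contra hne
  refine hM c ⟨hc, ψ - φ, sub_ne_zero.2 (Ne.symm hne), by simp [hφ, hψ], ?_⟩
  rw [← hml_mul hφ hψ]
  exact mul_mem h1 h2

/-- Without transvections orthogonality is symmetric. -/
lemma hml_symm {M : Subgroup (GL (Fin 3) F)} (hM : ∀ c, ¬ Cen M c) (h2 : (2 : F) ≠ 0)
    {c d : V3 F} (hd : d ≠ 0) {φ ψ : D3 F} (hφ : φ c = 2) (hψ : ψ d = 2) (h1 : hml c φ ∈ M)
    (h1' : hml d ψ ∈ M) (h : φ d = 0) : ψ c = 0 := by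
  set t := hml c φ
  have htd : app t d = -d := by rw [hml_apply hφ, h, zero_smul, add_zero]
  have htc : app t c = c := by rw [hml_apply hφ, hφ]; module
  have h3 := mul_mem (mul_mem h1 h1') (inv_mem h1)
  rw [hml_conj hψ, htd] at h3
  have h4 : (ψ ∘ₗ (app t⁻¹).toLinearMap) (-d) = 2 := by
    rw [← htd]; exact (C5.comp_inv_app ψ _ d).trans hψ
  rw [← hml_neg h4, neg_neg] at h3
  have h5 := hml_unique hM hd hψ (by rw [LinearMap.neg_apply, ← map_neg]; exact h4) h1' h3
  have h6 := LinearMap.congr_fun h5 c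
  conv_rhs at h6 => rw [← htc]
  rw [LinearMap.neg_apply, C5.comp_inv_app] at h6
  exact mul_left_cancel₀ h2 (by rw [mul_zero]; linear_combination h6)

end Cfsg.Agent.SL3Max
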