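/-
Involutions of determinant one in dimension three.
Main results: `involution_cases`.
-/
import Cfsg.Agent.Lib.SL3Max.Homology

set_option autoImplicit false
set_option linter.unusedSectionVars false

namespace Cfsg.Agent.SL3Max

open Cfsg.Agent.Transvect Module

variable {F : Type*} [Field F]

lemma eq_smul_of_range_le {D : V3 F →ₗ[F] V3 F} {c : V3 F} (hc : c ≠ 0)
    (h : ∀ x, D x ∈ F ∙ c) : ∃ φ : D3 F, ∀ x, D x = φ x • c := by
  obtain ⟨ψ, -, hψ⟩ := exists_dual_eq_one (W := (⊥ : Submodule F (V3 F))) (u := c) (by simpa using hc)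
  refine ⟨ψ ∘ₗ D, fun x => ?_⟩
  obtain ⟨a, ha⟩ := Submodule.mem_span_singleton.1 (h x)
  rw [LinearMap.comp_apply, ← ha, map_smul, hψ, smul_eq_mul, mul_one]

/-- An involution of determinant one is a transvection in characteristic two, a homology otherwise. -/
theorem involution_cases {t : GL (Fin 3) F} (ht2 : t * t = 1) (ht1 : t ≠ 1)
    (hdet : (t : Matrix (Fin 3) (Fin 3) F).det = 1) :
    ((2 : F) = 0 ∧ ∃ c φ, c ≠ 0 ∧ φ ≠ 0 ∧ φ c = 0 ∧ t = tv c φ) ∨
      ((2 : F) ≠ 0 ∧ ∃ c φ, φ c = 2 ∧ t = hml c φ) := by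
  set T : V3 F →ₗ[F] V3 F := (app t).toLinearMap
  have hTT : ∀ x, T (T x) = x := fun x => by
    show app t (app t x) = x
    rw [← LinearEquiv.mul_apply, ← map_mul, ht2, map_one]; rfl
  have h3 : finrank F (V3 F) = 3 := by simp
  by_cases h2 : (2 : F) = 0
  · refine Or.inl ⟨h2, ?_⟩
    set D := T - LinearMap.id
    have hDD : ∀ x, D (D x) = 0 := fun x => by
      simp only [D, LinearMap.sub_apply, LinearMap.id_apply, map_sub, hTT]
      have : (2 : F) • (x - T x) = 0 := by rw [h2, zero_smul]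
      rw [← this]; module
    have hle : LinearMap.range D ≤ LinearMap.ker D := by
      rintro _ ⟨x, rfl⟩; exact hDD x
    have hr := LinearMap.finrank_range_add_finrank_ker D
    have := Submodule.finrank_mono hle
    have hne : LinearMap.range D ≠ ⊥ := fun h => ht1 (gl_ext fun x => by
      have h1 : D x ∈ LinearMap.range D := ⟨x, rfl⟩
      rw [h, Submodule.mem_bot, LinearMap.sub_apply, LinearMap.id_apply, sub_eq_zero] at h1
      rw [map_one]; exact h1)
    have hr1 : finrank F (LinearMap.range D) = 1 := by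
      have h0 : finrank F (LinearMap.range D) ≠ 0 := fun h => hne (Submodule.finrank_eq_zero.1 h)
      rw [h3] at hr; omega
    obtain ⟨c, hc, hc0⟩ := Submodule.exists_mem_ne_zero_of_ne_bot hne
    have hspan := Submodule.eq_of_le_of_finrank_le
      ((Submodule.span_singleton_le_iff_mem _ _).2 hc) (by rw [hr1, finrank_span_singleton hc0])
    obtain ⟨φ, hφ⟩ := eq_smul_of_range_le hc0 (fun x => (hspan.symm ▸ ⟨x, rfl⟩ : D x ∈ F ∙ c))
    have hφc : φ c = 0 := by
      have h1 := hle hc
      rw [LinearMap.mem_ker, hφ] at h1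
      exact (smul_eq_zero.1 h1).resolve_right hc0
    refine ⟨c, φ, hc0, fun h => hne (LinearMap.range_eq_bot.2 (LinearMap.ext fun x => by
      rw [hφ, h, LinearMap.zero_apply, zero_smul, LinearMap.zero_apply])), hφc,
      gl_ext fun x => ?_⟩
    rw [tv_apply hφc, ← hφ]
    show T x = x + (T x - x)
    abel
  refine Or.inr ⟨h2, ?_⟩
  set P := LinearMap.ker (T - LinearMap.id)
  set N := LinearMap.ker (T + LinearMap.id)
  have hP : ∀ x, x ∈ P ↔ T x = x := fun x => by simp [P, sub_eq_zero]
  have hN : ∀ x, x ∈ N ↔ T x = -x := fun x => by simp [N, add_eq_zero_iff_eq_neg]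
  have hinf : P ⊓ N = ⊥ := by
    rw [Submodule.eq_bot_iff]
    rintro x ⟨hx, hx'⟩
    have h1 := ((hP x).1 hx).symm.trans ((hN x).1 hx')
    have : (2 : F) • x = 0 := by rw [two_smul]; nth_rewrite 1 [h1]; exact neg_add_cancel x
    exact (smul_eq_zero.1 this).resolve_left h2
  have hsup : P ⊔ N = ⊤ := by
    rw [eq_top_iff]; intro x _
    refine Submodule.mem_sup.2 ⟨(2 : F)⁻¹ • (x + T x), (hP _).2 ?_, (2 : F)⁻¹ • (x - T x), (hN _).2 ?_, ?_⟩
    · rw [map_smul, map_add, hTT, add_comm]
    · rw [map_smul, map_sub, hTT, ← smul_neg, neg_sub]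
    · rw [← smul_add, add_add_sub_cancel, ← two_smul F x, smul_smul, inv_mul_cancel₀ h2, one_smul]
  have hsum := Submodule.finrank_sup_add_finrank_inf_eq P N
  rw [hsup, hinf, finrank_top, finrank_bot, h3] at hsum
  have hplus : ∀ x, T x + x ∈ P := fun x => (hP _).2 (by rw [map_add, hTT, add_comm])
  rcases (by omega : finrank F P = 0 ∨ finrank F P = 1 ∨ finrank F N = 1 ∨ finrank F N = 0) with
    h | h | h | h
  · exfalso
    have hneg : (t : Matrix (Fin 3) (Fin 3) F) = -1 := Matrix.ext_of_mulVec_single fun i => by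
      rw [← app_apply, Matrix.neg_mulVec, Matrix.one_mulVec]
      have h1 := hplus (Pi.single i 1)
      rw [Submodule.finrank_eq_zero.1 h, Submodule.mem_bot, add_eq_zero_iff_eq_neg] at h1
      exact h1
    rw [hneg, Matrix.det_neg, Matrix.det_one, Fintype.card_fin] at hdet
    exact h2 (by linear_combination -hdet)
  · obtain ⟨c, hc, hc0⟩ := Submodule.exists_mem_ne_zero_of_ne_bot
      (p := P) (fun hb => by rw [hb, finrank_bot] at h; omega)
    have hspan := Submodule.eq_of_le_of_finrank_le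
      ((Submodule.span_singleton_le_iff_mem _ _).2 hc) (by rw [h, finrank_span_singleton hc0])
    obtain ⟨φ, hφ⟩ := eq_smul_of_range_le (D := T + LinearMap.id) hc0
      (fun x => hspan.symm ▸ hplus x)
    have hφc : φ c = 2 := by
      have h1 := hφ c
      rw [LinearMap.add_apply, LinearMap.id_apply, (hP c).1 hc, ← two_smul F c] at h1
      exact (smul_left_injective F hc0 h1).symm
    refine ⟨c, φ, hφc, gl_ext fun x => ?_⟩
    rw [hml_apply hφc, ← hφ]
    show T x = -x + (T x + x)
    abel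
  · exfalso
    obtain ⟨c, hc, hc0⟩ := Submodule.exists_mem_ne_zero_of_ne_bot
      (p := N) (fun hb => by rw [hb, finrank_bot] at h; omega)
    have hspan := Submodule.eq_of_le_of_finrank_le
      ((Submodule.span_singleton_le_iff_mem _ _).2 hc) (by rw [h, finrank_span_singleton hc0])
    obtain ⟨χ, hχ⟩ := eq_smul_of_range_le (D := LinearMap.id - T) hc0 (fun x => hspan.symm ▸ (hN _).2
      (by rw [LinearMap.sub_apply, LinearMap.id_apply, map_sub, hTT, neg_sub]))
    have hχc : χ c = 2 := by
      have h1 := hχ c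
      rw [LinearMap.sub_apply, LinearMap.id_apply, (hN c).1 hc, sub_neg_eq_add, ← two_smul F c] at h1
      exact (smul_left_injective F hc0 h1).symm
    have hneg : (t : Matrix (Fin 3) (Fin 3) F) = -(hml c χ : Matrix (Fin 3) (Fin 3) F) :=
      Matrix.ext_of_mulVec_single fun i => by
        rw [Matrix.neg_mulVec, ← app_apply, ← app_apply, hml_apply hχc, ← hχ]
        show T _ = -(-_ + ((Pi.single i 1 : V3 F) - T _))
        abel
    have h1 := mem_sl_iff.1 (hml_mem_sl c χ)
    rw [hneg, Matrix.det_neg, h1, Fintype.card_fin] at hdet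
    exact h2 (by linear_combination -hdet)
  · refine absurd (gl_ext fun x => ?_) ht1
    have h1 : T x - x ∈ N := (hN _).2 (by rw [map_sub, hTT, neg_sub])
    rw [Submodule.finrank_eq_zero.1 h, Submodule.mem_bot, sub_eq_zero] at h1
    rw [map_one]; exact h1

/-- Scaling a homology. -/
lemma hml_smul {c : V3 F} {φ : D3 F} (h : φ c = 2) {a : F} (ha : a ≠ 0) :
    hml (a • c) (a⁻¹ • φ) = hml c φ := gl_ext fun x => by
  rw [hml_apply h, hml_apply (by rw [LinearMap.smul_apply, map_smul, h, smul_smul,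
    inv_mul_cancel₀ ha, one_smul]), LinearMap.smul_apply, smul_eq_mul, smul_smul,
    mul_comm a⁻¹, mul_assoc, inv_mul_cancel₀ ha, mul_one]

end Cfsg.Agent.SL3Max
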