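/-
A group transitive on the points of the plane is transitive on its lines.
Main results:
* `lnTrans_of_ptTrans`
* `sl_le_of_transitive` : a point-transitive group with a transvection contains `SL₃`
-/
import Cfsg.Agent.Lib.SL3Max.Flags

set_option autoImplicit false
set_option linter.unusedSectionVars false

namespace Cfsg.Agent.SL3Max

open Cfsg.Agent.Transvect Module Matrix

variable {F : Type*} [Field F]

/-- Transitive on points. -/
def PtTrans (M : Subgroup (GL (Fin 3) F)) : Prop :=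
  ∀ v w : V3 F, v ≠ 0 → w ≠ 0 → ∃ g ∈ M, ∃ a : F, app g v = a • w

/-- Transitive on lines. -/
def LnTrans (M : Subgroup (GL (Fin 3) F)) : Prop :=
  ∀ φ ψ : D3 F, φ ≠ 0 → ψ ≠ 0 → ∃ g ∈ M, ∃ a : F, φ ∘ₗ (app g⁻¹).toLinearMap = a • ψ

section count

variable [Fintype F]

lemma card_ker_transpose (B : Matrix (Fin 3) (Fin 3) F) :
    Nat.card (LinearMap.ker B.mulVecLin) = Nat.card (LinearMap.ker Bᵀ.mulVecLin) := by
  have h1 := LinearMap.finrank_range_add_finrank_ker B.mulVecLin
  have h2 := LinearMap.finrank_range_add_finrank_ker Bᵀ.mulVecLin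
  have h3 : Bᵀ.rank = B.rank := Matrix.rank_transpose B
  unfold Matrix.rank at h3
  rw [Module.natCard_eq_pow_finrank (K := F) (V := LinearMap.ker B.mulVecLin),
    Module.natCard_eq_pow_finrank (K := F) (V := LinearMap.ker Bᵀ.mulVecLin)]
  congr 1
  omega

/-- A matrix and its inverse transpose fix as many vectors. -/
lemma card_fixed_contra (g : GL (Fin 3) F) :
    Nat.card {x : V3 F // (g : Matrix (Fin 3) (Fin 3) F) *ᵥ x = x} =
      Nat.card {x : V3 F // ((g⁻¹ : GL (Fin 3) F) : Matrix (Fin 3) (Fin 3) F)ᵀ *ᵥ x = x} := by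
  set A := ((g⁻¹ : GL (Fin 3) F) : Matrix (Fin 3) (Fin 3) F) with hA
  calc Nat.card {x : V3 F // (g : Matrix (Fin 3) (Fin 3) F) *ᵥ x = x}
      = Nat.card (LinearMap.ker (A - 1).mulVecLin) := by
        refine Nat.card_congr (Equiv.subtypeEquivRight fun x => ?_)
        rw [LinearMap.mem_ker, Matrix.mulVecLin_apply, Matrix.sub_mulVec, Matrix.one_mulVec,
          sub_eq_zero, hA]
        constructor
        · intro h
          conv_lhs => rw [← h]
          exact app_inv_app g x
        · intro h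
          conv_lhs => rw [← h]
          exact app_app_inv g x
    _ = Nat.card (LinearMap.ker (A - 1)ᵀ.mulVecLin) := card_ker_transpose _
    _ = _ := by
        refine Nat.card_congr (Equiv.subtypeEquivRight fun x => ?_)
        rw [LinearMap.mem_ker, Matrix.mulVecLin_apply, Matrix.transpose_sub, Matrix.transpose_one,
          Matrix.sub_mulVec, Matrix.one_mulVec, sub_eq_zero]

/-- The inverse transpose. -/
def contra : GL (Fin 3) F →* GL (Fin 3) F where
  toFun g := ⟨((g⁻¹ : GL (Fin 3) F) : Matrix (Fin 3) (Fin 3) F)ᵀ,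
    (g : Matrix (Fin 3) (Fin 3) F)ᵀ,
    by rw [← Matrix.transpose_mul, ← Units.val_mul, mul_inv_cancel, Units.val_one,
      Matrix.transpose_one],
    by rw [← Matrix.transpose_mul, ← Units.val_mul, inv_mul_cancel, Units.val_one,
      Matrix.transpose_one]⟩
  map_one' := by ext : 1; simp
  map_mul' g h := by ext : 1; simp [Matrix.transpose_mul]

/-- The sum of the fixed vector counts. -/
noncomputable def fixSum (G : Subgroup (GL (Fin 3) F)) (f : GL (Fin 3) F →* GL (Fin 3) F) : ℕ :=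
  letI := Fintype.ofFinite G
  ∑ g : G, Nat.card {x : V3 F // (f g : Matrix (Fin 3) (Fin 3) F) *ᵥ x = x}

lemma fixSum_contra (G : Subgroup (GL (Fin 3) F)) :
    fixSum G (MonoidHom.id _) = fixSum G contra :=
  Finset.sum_congr rfl fun g _ => card_fixed_contra (g : GL (Fin 3) F)

/-- The action through a homomorphism. -/
@[reducible] noncomputable def actOf (G : Subgroup (GL (Fin 3) F))
    (f : GL (Fin 3) F →* GL (Fin 3) F) : MulAction G (V3 F) where
  smul g x := app (f g) x
  one_smul x := show app (f (1 : GL (Fin 3) F)) x = x by simp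
  mul_smul g h x := show app (f ((g : GL (Fin 3) F) * h)) x = app (f g) (app (f h) x) by
    rw [map_mul, map_mul]; rfl

open Classical in
lemma fixSum_eq (G : Subgroup (GL (Fin 3) F)) (f : GL (Fin 3) F →* GL (Fin 3) F) :
    letI := actOf G f
    fixSum G f = Nat.card (MulAction.orbitRel.Quotient G (V3 F)) * Nat.card G := by
  letI := actOf G f
  letI := Fintype.ofFinite G
  rw [Nat.card_eq_fintype_card, Nat.card_eq_fintype_card,
    ← MulAction.sum_card_fixedBy_eq_card_orbits_mul_card_group G (V3 F)]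
  refine Finset.sum_congr rfl fun g _ => ?_
  rw [← Nat.card_eq_fintype_card]
  rfl

/-- Transitivity passes to the inverse transpose. -/
lemma trans_contra (G : Subgroup (GL (Fin 3) F))
    (h : ∀ v w : V3 F, v ≠ 0 → w ≠ 0 → ∃ g ∈ G, app g v = w) :
    ∀ v w : V3 F, v ≠ 0 → w ≠ 0 → ∃ g ∈ G, app (contra g) v = w := by
  classical
  have h1 := fixSum_eq G (MonoidHom.id _)
  have h2 := fixSum_eq G contra
  rw [fixSum_contra] at h1
  rw [h1] at h2
  have h3 := Nat.eq_of_mul_eq_mul_right Nat.card_pos h2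
  have hle : letI := actOf G (MonoidHom.id _)
      Nat.card (MulAction.orbitRel.Quotient G (V3 F)) ≤ 2 := by
    letI := actOf G (MonoidHom.id _)
    have hs : Function.Surjective (fun b : Bool => (Quotient.mk'' (if b then (0 : V3 F) else
        Pi.single 0 1) : MulAction.orbitRel.Quotient G (V3 F))) := by
      intro c
      obtain ⟨x, rfl⟩ := Quotient.mk''_surjective c
      by_cases hx : x = 0
      · exact ⟨true, by simp [hx]⟩
      · obtain ⟨g, hg, hgx⟩ := h x (Pi.single 0 1) hx (fun h => by simpa using congrFun h 0)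
        exact ⟨false, Quotient.eq''.2 ⟨⟨g, hg⟩, hgx⟩⟩
    simpa using Nat.card_le_card_of_surjective _ hs
  rw [h3] at hle
  intro v w hv hw
  by_contra hne
  letI := actOf G contra
  have hrel : ∀ x y : V3 F,
      (Quotient.mk'' x : MulAction.orbitRel.Quotient G (V3 F)) = Quotient.mk'' y →
        ∃ g ∈ G, app (contra g) y = x := fun x y hxy => by
    obtain ⟨⟨g, hg⟩, hgy⟩ := Quotient.eq''.1 hxy
    exact ⟨g, hg, hgy⟩
  have hinj : Function.Injective (fun i : Fin 3 =>
      (Quotient.mk'' (![0, v, w] i) : MulAction.orbitRel.Quotient G (V3 F))) := by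
    intro i j hij
    by_contra hd
    obtain ⟨g, hg, hgy⟩ := hrel _ _ hij
    obtain ⟨g', hg', hgy'⟩ := hrel _ _ hij.symm
    fin_cases i <;> fin_cases j <;>
      first
      | exact hd rfl
      | exact hne ⟨g, hg, hgy⟩
      | exact hne ⟨g', hg', hgy'⟩
      | exact hv (by simpa using hgy.symm)
      | exact hw (by simpa using hgy.symm)
      | exact hv (by simpa using hgy'.symm)
      | exact hw (by simpa using hgy'.symm)
  have h5 := Nat.card_le_card_of_injective _ hinj
  rw [Nat.card_fin] at h5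
  exact absurd (h5.trans hle) (by norm_num)

/-- The functional of a row vector. -/
def dl (y : V3 F) : D3 F where
  toFun x := y ⬝ᵥ x
  map_add' := dotProduct_add y
  map_smul' c x := dotProduct_smul c y x

lemma dl_single (y : V3 F) (i : Fin 3) : dl y (Pi.single i 1) = y i := by simp [dl]

lemma exists_dl (φ : D3 F) : ∃ y, dl y = φ :=
  ⟨fun i => φ (Pi.single i 1), (Pi.basisFun F (Fin 3)).ext fun i => by
    simp [Pi.basisFun_apply, dl_single]⟩

lemma dl_comp (y : V3 F) (g : GL (Fin 3) F) :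
    dl y ∘ₗ (app g⁻¹).toLinearMap = dl (app (contra g) y) := LinearMap.ext fun x => by
  show y ⬝ᵥ (((g⁻¹ : GL (Fin 3) F) : Matrix (Fin 3) (Fin 3) F) *ᵥ x) = _
  rw [Matrix.dotProduct_mulVec, ← Matrix.mulVec_transpose]
  rfl

lemma app_scalar {z : GL (Fin 3) F} (hz : z ∈ Cfsg.Geo.scalars (Fin 3) F) :
    ∃ c : F, c ≠ 0 ∧ ∀ x, app z x = c • x := by
  obtain ⟨c, hc⟩ := (Cfsg.Geo.mem_scalars_iff z).1 hz
  exact ⟨c, c.ne_zero, fun x => by rw [app_apply, hc, Matrix.smul_mulVec, Matrix.one_mulVec]⟩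

theorem lnTrans_of_ptTrans {M : Subgroup (GL (Fin 3) F)} (h : PtTrans M) : LnTrans M := by
  set G := M ⊔ Cfsg.Geo.scalars (Fin 3) F with hG
  have hGt : ∀ v w : V3 F, v ≠ 0 → w ≠ 0 → ∃ g ∈ G, app g v = w := by
    intro v w hv hw
    obtain ⟨g, hg, a, ha⟩ := h v w hv hw
    have ha0 : a ≠ 0 := fun h0 => hv ((app g).map_eq_zero_iff.1 (by rw [ha, h0, zero_smul]))
    let z : GL (Fin 3) F :=
      Units.map (Matrix.scalar (Fin 3) : F →+* _).toMonoidHom (Units.mk0 a⁻¹ (inv_ne_zero ha0))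
    have hz : ∀ x, app z x = a⁻¹ • x := fun x => by
      funext i; simp [z, Matrix.mulVec_diagonal]
    refine ⟨z * g, mul_mem (Subgroup.mem_sup_right ⟨_, rfl⟩) (Subgroup.mem_sup_left hg), ?_⟩
    rw [map_mul, LinearEquiv.mul_apply, ha, hz, smul_smul, inv_mul_cancel₀ ha0, one_smul]
  intro φ ψ hφ hψ
  obtain ⟨y, rfl⟩ := exists_dl φ
  obtain ⟨y', rfl⟩ := exists_dl ψ
  have hne : ∀ {y : V3 F}, dl y ≠ 0 → y ≠ 0 := fun h h0 => h (LinearMap.ext fun x => by
    simp [h0, dl])
  obtain ⟨g, hg, hgy⟩ := trans_contra G hGt y y' (hne hφ) (hne hψ)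
  obtain ⟨m, hm, z, hz, rfl⟩ := Subgroup.mem_sup_of_normal_right.1 hg
  obtain ⟨c, hc, hcz⟩ := app_scalar hz
  refine ⟨m, hm, c, LinearMap.ext fun x => ?_⟩
  have h1 := LinearMap.congr_fun ((dl_comp y (m * z)).trans (congrArg dl hgy)) x
  simp only [LinearMap.comp_apply, LinearEquiv.coe_coe, LinearMap.smul_apply, smul_eq_mul] at h1 ⊢
  have h2 : app (m * z)⁻¹ x = c⁻¹ • app m⁻¹ x := by
    apply (app (m * z)).injective
    rw [app_app_inv, map_mul, LinearEquiv.mul_apply, hcz, smul_smul, mul_inv_cancel₀ hc, one_smul,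
      app_app_inv]
  rw [h2, map_smul, smul_eq_mul] at h1
  rw [← h1, ← mul_assoc, mul_inv_cancel₀ hc, one_mul]

/-- A point-transitive group with a transvection contains `SL₃`. -/
theorem sl_le_of_transitive {M : Subgroup (GL (Fin 3) F)} (hp : PtTrans M) {c : V3 F}
    (hc : Cen M c) : Cfsg.Geo.specialLinear (Fin 3) F ≤ M := by
  obtain ⟨hc0, φ, hφ0, hφc, hφ⟩ := hc
  refine sl_le_of_all (fun d hd => ?_) (fun ψ hψ => ?_)
  · obtain ⟨g, hg, a, ha⟩ := hp c d hc0 hd
    have ha0 : a ≠ 0 := fun h => hc0 ((app g).map_eq_zero_iff.1 (by rw [ha, h, zero_smul]))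
    have := (Cen.conj ⟨hc0, φ, hφ0, hφc, hφ⟩ hg).smul (inv_ne_zero ha0)
    rwa [ha, smul_smul, inv_mul_cancel₀ ha0, one_smul] at this
  · obtain ⟨g, hg, a, ha⟩ := lnTrans_of_ptTrans hp φ ψ hφ0 hψ
    have ha0 : a ≠ 0 := fun h => comp_inv_ne_zero hφ0 g (by rw [ha, h, zero_smul])
    have := (Axis.conj ⟨hφ0, c, hc0, hφc, hφ⟩ hg).smul (inv_ne_zero ha0)
    rwa [ha, smul_smul, inv_mul_cancel₀ ha0, one_smul] at this

end count

end Cfsg.Agent.SL3Max
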