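/-
Arithmetic for overgroups of the monomial group of `SL₃(q)`, `3 ∣ q - 1`.
Main results:
* `index_impossible`
-/
import Cfsg.Agent.EqLemmas

set_option autoImplicit false

namespace Cfsg.Agent.SL3Max

lemma index_small : ∀ m < 83, 2 ≤ m →
    ∀ k : Fin 2,
      (3 * m + 1) ^ 3 * (3 * m + 2) * ((3 * m + 1) * (3 * m + 1) + (3 * m + 1) + 1) %
        (6 * (1 + (k.val + 2) * (m * m))) ≠ 0 := by
  decide +kernel

/-- An index `1 + k ((q - 1)/3)²`, `k ∈ {2, 3}`, does not divide the order. -/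
theorem index_impossible {p n m k : ℕ} (hp : p.Prime) (hq : p ^ n = 3 * m + 1) (hm : 2 ≤ m)
    (hk : k = 2 ∨ k = 3)
    (hdvd : 6 * (1 + k * (m * m)) ∣
      (3 * m + 1) ^ 3 * (3 * m + 2) * ((3 * m + 1) * (3 * m + 1) + (3 * m + 1) + 1)) : False := by
  set q := 3 * m + 1 with hqdef
  set I := 1 + k * (m * m) with hI
  set N := q * q + q + 1 with hN
  have hI6 : I ∣ q ^ 3 * (3 * m + 2) * N := (dvd_mul_left I 6).trans hdvd
  have h1 : 9 * I + 2 * k * q = 9 + k + k * (q * q) := by rw [hI, hqdef]; ring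
  have hA : Nat.gcd I (q ^ 3) ∣ 9 + k := by
    have hg : Nat.gcd I (q ^ 3) ∣ p ^ (n * 3) := by
      rw [pow_mul, hq]; exact Nat.gcd_dvd_right _ _
    obtain ⟨j, hj, hgj⟩ := (Nat.dvd_prime_pow hp).1 hg
    have hgI : Nat.gcd I (q ^ 3) ∣ I := Nat.gcd_dvd_left _ _
    rw [hgj] at hgI ⊢
    have key : ∀ i, p ^ i ∣ I → p ^ i ∣ q → p ^ i ∣ 9 + k := fun i hi hiq => by
      have h2 : p ^ i ∣ 9 * I + 2 * k * q := dvd_add (hi.mul_left 9) (hiq.mul_left _)
      rw [h1] at h2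
      exact (Nat.dvd_add_left ((hiq.mul_left q).mul_left k)).1 h2
    by_cases hjn : j ≤ n
    · exact key j hgI (by rw [← hq]; exact pow_dvd_pow p hjn)
    · exfalso
      have h3 := key n ((pow_dvd_pow p (by omega)).trans hgI) (by rw [← hq])
      rw [hq] at h3
      have h4 := Nat.le_of_dvd (by omega) h3
      have hm' : m ≤ 3 := by omega
      rcases hk with rfl | rfl <;> interval_cases m <;> norm_num [hqdef] at h3
  have hB : Nat.gcd I (3 * m + 2) ∣ 9 + 4 * k := by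
    have h2 : 9 * I + 4 * k * (3 * m + 2) = 9 + 4 * k + k * ((3 * m + 2) * (3 * m + 2)) := by
      rw [hI]; ring
    have h3 : Nat.gcd I (3 * m + 2) ∣ 9 * I + 4 * k * (3 * m + 2) :=
      dvd_add ((Nat.gcd_dvd_left _ _).mul_left 9) ((Nat.gcd_dvd_right _ _).mul_left _)
    rw [h2] at h3
    exact (Nat.dvd_add_left (((Nat.gcd_dvd_right I _).mul_left _).mul_left k)).1 h3
  have hC : Nat.gcd I N ∣ 3 * (k * k + 3 * k + 9) := by
    have h2 : ∀ d, d ∣ I → d ∣ N → d ∣ 3 * (k * k + 3 * k + 9) := by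
      intro d hdI hdN
      have e1 : (d : ℤ) ∣ (I : ℤ) := Int.natCast_dvd_natCast.2 hdI
      have e2 : (d : ℤ) ∣ (N : ℤ) := Int.natCast_dvd_natCast.2 hdN
      have h3 : (d : ℤ) ∣ ((3 * (k * k + 3 * k + 9) : ℕ) : ℤ) := by
        have : ((3 * (k * k + 3 * k + 9) : ℕ) : ℤ) =
            (-((k : ℤ) * q + 3 + k)) * -(9 * I - k * N) + 3 * k * k * N := by
          simp only [hI, hN, hqdef]; push_cast; ring
        rw [this]
        exact dvd_add ((dvd_neg.2 (dvd_sub (e1.mul_left _) (e2.mul_left _))).mul_left _)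
          (e2.mul_left _)
      exact Int.natCast_dvd_natCast.1 h3
    exact h2 _ (Nat.gcd_dvd_left _ _) (Nat.gcd_dvd_right _ _)
  have hbound : I ∣ (9 + k) * (9 + 4 * k) * (3 * (k * k + 3 * k + 9)) :=
    ((Nat.dvd_gcd dvd_rfl hI6).trans (Nat.gcd_mul_right_dvd_mul_gcd I _ _)).trans
      (mul_dvd_mul ((Nat.gcd_mul_right_dvd_mul_gcd I _ _).trans (mul_dvd_mul hA hB)) hC)
  have hle := Nat.le_of_dvd (by positivity) hbound
  have hm83 : m < 83 := by
    by_contra h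
    have : 83 * 83 ≤ m * m := Nat.mul_le_mul (not_lt.1 h) (not_lt.1 h)
    rcases hk with rfl | rfl <;> omega
  rcases hk with rfl | rfl
  · exact index_small m hm83 hm 0 (Nat.mod_eq_zero_of_dvd hdvd)
  · exact index_small m hm83 hm 1 (Nat.mod_eq_zero_of_dvd hdvd)

end Cfsg.Agent.SL3Max
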