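/-
Overgroups of the monomial group of `SL₃(q)`, `q ≥ 5`, with a non-monomial element fixing a point.
Main results:
* `sl_le_of_moved` : `g e_k ∝ e_k` and the opposite side moved
* `sl_le_of_block`
* `sl_le_of_fixed`
-/
import Cfsg.Agent.Lib.Transvect.Monomial
import Cfsg.Agent.Lib.SL3Max.Flags

set_option autoImplicit false
set_option linter.unusedSectionVars false

namespace Cfsg.Agent.SL3Max

open Cfsg.Agent.Transvect Module Matrix

variable {F : Type*} [Field F] [Fintype F] {M : Subgroup (GL (Fin 3) F)}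

lemma ee_ne_zero (i : Fin 3) : (ee i : V3 F) ≠ 0 := fun h => by simpa [ee] using congrFun h i

lemma prod_three {i j k : Fin 3} (hij : i ≠ j) (hik : i ≠ k) (hjk : j ≠ k) (c : Fin 3 → F) :
    ∏ x, c x = c i * c j * c k := by
  rw [show (Finset.univ : Finset (Fin 3)) = {i, j, k} by revert i j k; decide]
  rw [Finset.prod_insert (by simp [hij, hik]), Finset.prod_insert (by simp [hjk]),
    Finset.prod_singleton, mul_assoc]

lemma eq_of_three {i j k : Fin 3} (hij : i ≠ j) (hik : i ≠ k) (hjk : j ≠ k) (x : Fin 3) :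
    x = i ∨ x = j ∨ x = k := by
  revert i j k x; decide

lemma exists_third : ∀ s k : Fin 3, ∃ l, l ≠ s ∧ l ≠ k := by decide

/-- A vector in the coordinates `i`, `j`, `k`. -/
lemma expand3 {i j k : Fin 3} (hij : i ≠ j) (hik : i ≠ k) (hjk : j ≠ k) (v : V3 F) :
    v = v i • ee i + v j • ee j + v k • ee k := by
  funext x
  rcases eq_of_three hij hik hjk x with rfl | rfl | rfl <;>
    simp [ee, hij, hik, hjk, hij.symm, hik.symm, hjk.symm]

variable (hM : ∀ g : GL (Fin 3) F, IsMono g → g ∈ Cfsg.Geo.specialLinear (Fin 3) F → g ∈ M)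
include hM

/-- Monomial elements of determinant one. -/
lemma mono_mem {i j k : Fin 3} (hij : i ≠ j) (hik : i ≠ k) (hjk : j ≠ k) (π : Equiv.Perm (Fin 3))
    {a b c : F} (ha : a ≠ 0) (hb : b ≠ 0) (hc : c ≠ 0)
    (h : ((Equiv.Perm.sign π : ℤ) : F) * (a * b * c) = 1) :
    ∃ g ∈ M, app g (ee i) = a • ee (π i) ∧ app g (ee j) = b • ee (π j) ∧
      app g (ee k) = c • ee (π k) := by
  set d : Fin 3 → Fˣ :=
    fun x => if x = i then Units.mk0 a ha else if x = j then Units.mk0 b hb else Units.mk0 c hc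
  have hi : (d i : F) = a := by simp [d]
  have hj : (d j : F) = b := by simp [d, hij.symm]
  have hk : (d k : F) = c := by simp [d, hik.symm, hjk.symm]
  refine ⟨pg π * dg d, hM _ (isMono_pg_dg π d) ?_, ?_, ?_, ?_⟩
  · rw [mem_sl_iff, det_pg_dg, prod_three hij hik hjk, hi, hj, hk, h]
  all_goals rw [app_pg_dg_ee]
  · rw [hi]
  · rw [hj]
  · rw [hk]

lemma diag_mem {i j k : Fin 3} (hij : i ≠ j) (hik : i ≠ k) (hjk : j ≠ k)
    {a b c : F} (ha : a ≠ 0) (hb : b ≠ 0) (hc : c ≠ 0) (h : a * b * c = 1) :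
    ∃ g ∈ M, app g (ee i) = a • ee i ∧ app g (ee j) = b • ee j ∧ app g (ee k) = c • ee k :=
  mono_mem hM hij hik hjk 1 ha hb hc (by simp [h])

variable (hq : 5 ≤ Fintype.card F)
include hq

omit hM in
lemma exists_cube_ne_one : ∃ a : F, a ≠ 0 ∧ a ^ 3 ≠ 1 := by
  classical
  by_contra! hall
  have hsub : (Finset.univ.erase (0 : F)) ⊆ (Polynomial.nthRoots 3 (1 : F)).toFinset := fun x hx => by
    rw [Multiset.mem_toFinset, Polynomial.mem_nthRoots (by norm_num)]
    exact hall x (Finset.ne_of_mem_erase hx)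
  have h1 := Finset.card_le_card hsub
  have h2 := Multiset.toFinset_card_le (Polynomial.nthRoots 3 (1 : F))
  have h3 := Polynomial.card_nthRoots 3 (1 : F)
  rw [Finset.card_erase_of_mem (Finset.mem_univ _), Finset.card_univ] at h1
  omega

/-- An element fixing `e_k` and moving the opposite side. -/
theorem sl_le_of_moved {g : GL (Fin 3) F} (hg : g ∈ M) {k s : Fin 3} (hsk : s ≠ k) {c : F}
    (hgk : app g (ee k) = c • ee k) (hmove : app g (ee s) k ≠ 0) :
    Cfsg.Geo.specialLinear (Fin 3) F ≤ M := by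
  obtain ⟨a, ha, ha3⟩ := exists_cube_ne_one hq
  have hc : c ≠ 0 := fun h0 => ee_ne_zero (F := F) k
    ((app g).map_eq_zero_iff.1 (by rw [hgk, h0, zero_smul]))
  obtain ⟨l, hls, hlk⟩ := exists_third s k
  obtain ⟨d, hd, hds, hdl, hdk⟩ := diag_mem hM hls.symm hsk hlk ha ha
    (inv_ne_zero (mul_ne_zero ha ha)) (mul_inv_cancel₀ (mul_ne_zero ha ha))
  set b := (a * a)⁻¹
  have hb : b ≠ 0 := inv_ne_zero (mul_ne_zero ha ha)
  have hba : b ≠ a := fun h => ha3 (by
    have h1 : b * (a * a) = 1 := inv_mul_cancel₀ (mul_ne_zero ha ha)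
    rw [h] at h1; rw [← h1]; ring)
  have hdapp : ∀ v, app d v = a • v + ((b - a) * v k) • ee k := fun v => by
    conv_lhs => rw [expand3 hls.symm hsk hlk v]
    conv_rhs => rw [expand3 hls.symm hsk hlk v]
    simp only [map_add, map_smul, hds, hdl, hdk]
    simp [ee, hsk.symm, hlk.symm]
    module
  set P : D3 F := (LinearMap.proj k) ∘ₗ (app (g⁻¹ * d⁻¹)).toLinearMap
  set φ : D3 F := (a * b⁻¹ - 1) • LinearMap.proj k + ((b - a) * c) • P
  set u := g * d * g⁻¹ * d⁻¹
  have hu : u ∈ M := mul_mem (mul_mem (mul_mem hg hd) (inv_mem hg)) (inv_mem hd)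
  have hdinv : ∀ x, a • app d⁻¹ x = x + ((a * b⁻¹ - 1) * x k) • ee k := fun x => by
    apply (app d).injective
    rw [map_smul, app_app_inv, map_add, map_smul, hdk, hdapp, smul_smul, add_assoc, ← add_smul]
    rw [show (b - a) * x k + (a * b⁻¹ - 1) * x k * b = 0 by field_simp; ring, zero_smul, add_zero]
  have huapp : ∀ x, app u x = x + φ x • ee k := fun x => by
    simp only [u, map_mul, LinearEquiv.mul_apply]
    rw [hdapp (app g⁻¹ (app d⁻¹ x)), map_add, map_smul, app_app_inv, map_smul, hgk, hdinv,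
      smul_smul, add_assoc, ← add_smul]
    congr 2
    simp [φ, P]
    ring
  have hφk : φ (ee k) = 0 := by
    have hginv : app g⁻¹ (ee k) = c⁻¹ • ee k := by
      apply (app g).injective
      rw [app_app_inv, map_smul, hgk, smul_smul, inv_mul_cancel₀ hc, one_smul]
    have hdkinv : app d⁻¹ (ee k) = b⁻¹ • ee k := by
      apply (app d).injective
      rw [app_app_inv, map_smul, hdk, smul_smul, inv_mul_cancel₀ hb, one_smul]
    simp only [φ, P, LinearMap.add_apply, LinearMap.smul_apply, LinearMap.comp_apply,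
      LinearEquiv.coe_coe, map_mul, LinearEquiv.mul_apply, hdkinv, map_smul, hginv,
      LinearMap.proj_apply, smul_eq_mul]
    simp [ee]
    field_simp
    ring
  have hu' : u = tv (ee k) φ := gl_ext fun x => by rw [huapp, tv_apply hφk]
  -- the axis separates
  have hφx : φ (app d (app g (ee s))) ≠ 0 := by
    simp only [φ, P, LinearMap.add_apply, LinearMap.smul_apply, LinearMap.comp_apply,
      LinearEquiv.coe_coe, map_mul, LinearEquiv.mul_apply, app_inv_app, LinearMap.proj_apply,
      smul_eq_mul]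
    rw [show app d (app g (ee s)) k = b * app g (ee s) k by rw [hdapp]; simp [ee]; ring,
      show (ee s : V3 F) k = 0 by simp [ee, hsk.symm], mul_zero, add_zero]
    exact mul_ne_zero (fun h0 => hba (by field_simp at h0; linear_combination -h0))
      (mul_ne_zero hb hmove)
  obtain ⟨i, hik, hφi⟩ : ∃ i, i ≠ k ∧ φ (ee i) ≠ 0 := by
    by_contra! hall
    apply hφx
    rw [expand3 hls.symm hsk hlk (app d (app g (ee s))), map_add, map_add, map_smul, map_smul,
      map_smul, hall s hsk, hall l hlk, hφk]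
    simp
  obtain ⟨j, hji, hjk⟩ := exists_third i k
  -- conjugate by a torus element
  obtain ⟨e, he, hei, hej, hek⟩ := diag_mem hM hji.symm hik hjk hb ha ha
    (show b * a * a = 1 by rw [mul_assoc]; exact inv_mul_cancel₀ (mul_ne_zero ha ha))
  set φ' : D3 F := (a • φ) ∘ₗ (app e⁻¹).toLinearMap
  have hek' : app e⁻¹ (ee k) = a⁻¹ • ee k := by
    apply (app e).injective
    rw [app_app_inv, map_smul, hek, smul_smul, inv_mul_cancel₀ ha, one_smul]
  have hei' : app e⁻¹ (ee i) = b⁻¹ • ee i := by
    apply (app e).injective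
    rw [app_app_inv, map_smul, hei, smul_smul, inv_mul_cancel₀ hb, one_smul]
  have hej' : app e⁻¹ (ee j) = a⁻¹ • ee j := by
    apply (app e).injective
    rw [app_app_inv, map_smul, hej, smul_smul, inv_mul_cancel₀ ha, one_smul]
  have hφ'k : φ' (ee k) = 0 := by
    simp only [φ', LinearMap.comp_apply, LinearEquiv.coe_coe, hek', map_smul, LinearMap.smul_apply,
      hφk, smul_zero]
  have h1 : tv (ee k) φ' ∈ M := by
    have h2 := mul_mem (mul_mem he (hu' ▸ hu)) (inv_mem he)
    rw [tv_conj hφk, hek,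
      tv_smul ((C5.comp_inv_app φ e (ee k)).trans hφk |> fun h => by
        rw [hek, map_smul, smul_eq_mul, mul_eq_zero] at h; exact h.resolve_left ha)] at h2
    exact h2
  have hdiff : φ' - φ = ((a * b⁻¹ - 1) * φ (ee i)) • (LinearMap.proj i : D3 F) :=
    dual_ext_ee fun x => by
      rcases eq_of_three hji.symm hik hjk x with rfl | rfl | rfl
      · simp only [LinearMap.sub_apply, φ', LinearMap.comp_apply, LinearEquiv.coe_coe, hei',
          map_smul, LinearMap.smul_apply, smul_eq_mul]
        simp [ee]; ring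
      · simp only [LinearMap.sub_apply, φ', LinearMap.comp_apply, LinearEquiv.coe_coe, hej',
          map_smul, LinearMap.smul_apply, smul_eq_mul]
        simp [ee, hji.symm, inv_mul_cancel_left₀ ha]
      · simp only [LinearMap.sub_apply, hφ'k, hφk]
        simp [ee, hik]
  have h3 := mul_mem h1 (inv_mem (hu' ▸ hu))
  rw [tv_inv hφk, ← tv_add hφ'k (by simp [hφk]), ← sub_eq_add_neg, hdiff] at h3
  refine sl_le_of_root hM hik.symm (root_of_one hM (by simp) hik.symm (mul_ne_zero ?_ hφi) h3)
  intro h0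
  apply hba
  field_simp at h0
  linear_combination -h0

omit hM hq in
lemma not_mono_of_column {g : GL (Fin 3) F} {s a b : Fin 3} (hab : a ≠ b)
    (ha : app g (ee s) a ≠ 0) (hb : app g (ee s) b ≠ 0) : ¬ IsMono g := fun h => by
  obtain ⟨r, hr⟩ := h s
  rcases eq_or_ne a r with rfl | har
  · exact hb (hr b hab.symm)
  · exact ha (hr a har)

/-- A block element with a zero among the four entries. -/
theorem sl_le_of_block_zero {g : GL (Fin 3) F} (hg : g ∈ M) {i j k : Fin 3} (hij : i ≠ j)
    (hik : i ≠ k) (hjk : j ≠ k) {p r q s : F} (hi : app g (ee i) = p • ee i + r • ee j)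
    (hj : app g (ee j) = q • ee i + s • ee j) (h : p = 0 ∨ r = 0) (hq0 : q ≠ 0) (hs0 : s ≠ 0) :
    Cfsg.Geo.specialLinear (Fin 3) F ≤ M := by
  rcases h with hp | hr
  · obtain ⟨π, hπ, hπi, hπj, -⟩ := mono_mem hM hij hik hjk (Equiv.swap i j) one_ne_zero one_ne_zero
      (c := -1) (neg_ne_zero.2 one_ne_zero) (by simp [Equiv.Perm.sign_swap hij])
    rw [Equiv.swap_apply_left, one_smul] at hπi
    rw [Equiv.swap_apply_right, one_smul] at hπj
    refine sl_le_of_moved hM hq (mul_mem hπ hg) hij.symm (c := r) ?_ ?_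
    · rw [map_mul, LinearEquiv.mul_apply, hi, hp, zero_smul, zero_add, map_smul, hπj]
    · rw [map_mul, LinearEquiv.mul_apply, hj, map_add, map_smul, map_smul, hπi, hπj]
      simpa [ee, hij] using hs0
  · refine sl_le_of_moved hM hq hg hij.symm (c := p) ?_ ?_
    · rw [hi, hr, zero_smul, add_zero]
    · rw [hj]; simpa [ee, hij] using hq0

/-- Conjugates of torus elements by a block element. -/
lemma block_conj {g : GL (Fin 3) F} (hg : g ∈ M) {i j k : Fin 3} (hij : i ≠ j)
    (hik : i ≠ k) (hjk : j ≠ k) {p r q s : F} (hi : app g (ee i) = p • ee i + r • ee j)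
    (hj : app g (ee j) = q • ee i + s • ee j) (hD : p * s - q * r ≠ 0) {x : F} (hx : x ≠ 0) :
    ∃ y ∈ M,
      app y (ee i) = ((p * s * x - q * r) / (p * s - q * r)) • ee i +
        (r * s * (x - 1) / (p * s - q * r)) • ee j ∧
      app y (ee j) = (p * q * (1 - x) / (p * s - q * r)) • ee i +
        ((p * s - q * r * x) / (p * s - q * r)) • ee j := by
  obtain ⟨d, hd, hdi, hdj, -⟩ := diag_mem hM hij hik hjk hx one_ne_zero (inv_ne_zero hx)
    (by rw [mul_one, mul_inv_cancel₀ hx])
  set D := p * s - q * r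
  have hgi : app g⁻¹ (ee i) = (s / D) • ee i + (-r / D) • ee j := by
    apply (app g).injective
    rw [app_app_inv, map_add, map_smul, map_smul, hi, hj]
    match_scalars
    · field_simp; ring
    · field_simp; ring
  have hgj : app g⁻¹ (ee j) = (-q / D) • ee i + (p / D) • ee j := by
    apply (app g).injective
    rw [app_app_inv, map_add, map_smul, map_smul, hi, hj]
    match_scalars
    · field_simp; ring
    · field_simp; ring
  refine ⟨g * d * g⁻¹, mul_mem (mul_mem hg hd) (inv_mem hg), ?_, ?_⟩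
  · simp only [map_mul, LinearEquiv.mul_apply, hgi, map_add, map_smul, hdi, hdj, one_smul, hi, hj]
    match_scalars
    · field_simp; ring
    · field_simp; ring
  · simp only [map_mul, LinearEquiv.mul_apply, hgj, map_add, map_smul, hdi, hdj, one_smul, hi, hj]
    match_scalars
    · field_simp; ring
    · field_simp; ring

/-- A block element with `ps + qr ≠ 0`. -/
theorem sl_le_of_block_generic {g : GL (Fin 3) F} (hg : g ∈ M) {i j k : Fin 3} (hij : i ≠ j)
    (hik : i ≠ k) (hjk : j ≠ k) {p r q s : F} (hi : app g (ee i) = p • ee i + r • ee j)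
    (hj : app g (ee j) = q • ee i + s • ee j) (hp : p ≠ 0) (hr : r ≠ 0) (hq0 : q ≠ 0) (hs : s ≠ 0)
    (hD : p * s - q * r ≠ 0) (hgen : p * s + q * r ≠ 0) :
    Cfsg.Geo.specialLinear (Fin 3) F ≤ M := by
  have hps := mul_ne_zero hp hs
  obtain ⟨y, hy, hyi, hyj⟩ := block_conj hM hq hg hij hik hjk hi hj hD
    (x := q * r / (p * s)) (div_ne_zero (mul_ne_zero hq0 hr) hps)
  refine sl_le_of_block_zero hM hq hy hij hik hjk hyi hyj (Or.inl ?_) ?_ ?_
  · rw [mul_div_cancel₀ _ hps, sub_self, zero_div]
  · refine div_ne_zero (mul_ne_zero (mul_ne_zero hp hq0) ?_) hD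
    rw [one_sub_div hps]
    exact div_ne_zero hD hps
  · refine div_ne_zero ?_ hD
    have h1 : p * s - q * r * (q * r / (p * s)) =
        (p * s - q * r) * (p * s + q * r) / (p * s) := by field_simp; ring
    rw [h1]
    exact div_ne_zero (mul_ne_zero hD hgen) hps

/-- The exceptional block in five elements. -/
theorem sl_le_of_block_five (h5 : Fintype.card F = 5) {g : GL (Fin 3) F} (hg : g ∈ M)
    (hgSL : g ∈ Cfsg.Geo.specialLinear (Fin 3) F) {i j k : Fin 3} (hij : i ≠ j)
    (hik : i ≠ k) (hjk : j ≠ k) {p r q s t : F} (hi : app g (ee i) = p • ee i + r • ee j)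
    (hj : app g (ee j) = q • ee i + s • ee j) (hk : app g (ee k) = t • ee k) (hp : p ≠ 0)
    (hr : r ≠ 0) (hq0 : q ≠ 0) (hdet : t * (p * s - q * r) = 1) (heq : p * s + q * r = 0) :
    Cfsg.Geo.specialLinear (Fin 3) F ≤ M := by
  have five : (5 : F) = 0 := by
    have h := FiniteField.cast_card_eq_zero F
    rwa [h5, Nat.cast_ofNat] at h
  have h2 : (2 : F) ≠ 0 := fun h => one_ne_zero (by linear_combination five - 2 * h : (1 : F) = 0)
  have ht : t ≠ 0 := fun h => by rw [h, zero_mul] at hdet; exact zero_ne_one hdet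
  -- normalise to ((1, 1), (1, -1)) and 2
  obtain ⟨A, hA, hAi, hAj, hAk⟩ := diag_mem hM hij hik hjk (a := 1) (b := p / r) (c := r / p)
    one_ne_zero (div_ne_zero hp hr) (div_ne_zero hr hp) (by field_simp)
  obtain ⟨B, hB, hBi, hBj, hBk⟩ := diag_mem hM hij hik hjk (a := p⁻¹) (b := q⁻¹) (c := p * q)
    (inv_ne_zero hp) (inv_ne_zero hq0) (mul_ne_zero hp hq0) (by field_simp)
  set G := A * g * B
  have hG : G ∈ M := mul_mem (mul_mem hA hg) hB
  have hGi : app G (ee i) = ee i + ee j := by
    simp only [G, map_mul, LinearEquiv.mul_apply, hBi, map_smul, hi, map_add, hAi, hAj]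
    match_scalars
    · field_simp
    · field_simp
  have hGj : app G (ee j) = ee i + (-1 : F) • ee j := by
    simp only [G, map_mul, LinearEquiv.mul_apply, hBj, map_smul, hj, map_add, hAi, hAj]
    match_scalars
    · field_simp
    · field_simp; linear_combination heq
  have hGk : app G (ee k) = (2 : F) • ee k := by
    simp only [G, map_mul, LinearEquiv.mul_apply, hBk, map_smul, hk, hAk]
    match_scalars
    field_simp
    refine mul_left_cancel₀ h2 ?_
    linear_combination -hdet + t * heq - five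
  obtain ⟨P1, hP1, a1, b1, c1⟩ := mono_mem hM hij hik hjk (Equiv.swap i j) (a := 1) (b := 1)
    (c := -1) one_ne_zero one_ne_zero (neg_ne_zero.2 one_ne_zero)
    (by simp [Equiv.Perm.sign_swap hij])
  obtain ⟨P2, hP2, a2, b2, c2⟩ := mono_mem hM hij hik hjk (Equiv.swap j k) (a := 1) (b := 1)
    (c := -1) one_ne_zero one_ne_zero (neg_ne_zero.2 one_ne_zero)
    (by simp [Equiv.Perm.sign_swap hjk])
  obtain ⟨P3, hP3, a3, b3, c3⟩ := mono_mem hM hij hik hjk (Equiv.swap j k) (a := 1) (b := 2)
    (c := 2) one_ne_zero h2 h2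
    (by rw [Equiv.Perm.sign_swap hjk]; push_cast; linear_combination -five)
  rw [Equiv.swap_apply_left, one_smul] at a1
  rw [Equiv.swap_apply_right, one_smul] at b1
  rw [Equiv.swap_apply_of_ne_of_ne hik.symm hjk.symm] at c1
  rw [Equiv.swap_apply_of_ne_of_ne hij hik, one_smul] at a2 a3
  rw [Equiv.swap_apply_left] at b2 b3
  rw [Equiv.swap_apply_right] at c2 c3
  rw [one_smul] at b2
  refine sl_le_of_moved hM hq (g := P1 * G * P2 * G * P2 * G * P3 * G)
    (mul_mem (mul_mem (mul_mem (mul_mem (mul_mem (mul_mem (mul_mem hP1 hG) hP2) hG) hP2) hG) hP3) hG)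
    hij.symm (c := 4) ?_ ?_
  · simp only [map_mul, LinearEquiv.mul_apply, hGi, hGj, hGk, map_add, map_smul, a1, b1, c1, a2,
      b2, c2, a3, b3, c3]
    match_scalars <;> first | ring1 | grind
  · simp only [map_mul, LinearEquiv.mul_apply, hGi, hGj, hGk, map_add, map_smul, a1, b1, c1, a2,
      b2, c2, a3, b3, c3]
    simp [ee, hij, hik]
    grind

/-- An element fixing a coordinate point and not monomial. -/
theorem sl_le_of_fixed (hSL : M ≤ Cfsg.Geo.specialLinear (Fin 3) F) {g : GL (Fin 3) F}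
    (hg : g ∈ M) (hgm : ¬ IsMono g) {k : Fin 3} {c : F} (hgk : app g (ee k) = c • ee k) :
    Cfsg.Geo.specialLinear (Fin 3) F ≤ M := by
  by_cases hmove : ∃ s, s ≠ k ∧ app g (ee s) k ≠ 0
  · obtain ⟨s, hsk, hs⟩ := hmove
    exact sl_le_of_moved hM hq hg hsk hgk hs
  push Not at hmove
  obtain ⟨i, hik, -⟩ := exists_third k k
  obtain ⟨j, hji, hjk⟩ := exists_third i k
  have hij := hji.symm
  set p := app g (ee i) i
  set r := app g (ee i) j
  set q := app g (ee j) i
  set s := app g (ee j) j
  have hi : app g (ee i) = p • ee i + r • ee j := by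
    conv_lhs => rw [expand3 hij hik hjk (app g (ee i)), hmove i hik, zero_smul, add_zero]
  have hj : app g (ee j) = q • ee i + s • ee j := by
    conv_lhs => rw [expand3 hij hik hjk (app g (ee j)), hmove j hjk, zero_smul, add_zero]
  have hdet : c * (p * s - q * r) = 1 := by
    have h1 := mem_sl_iff.1 (hSL hg)
    have hcol : ∀ a b, (g : Matrix (Fin 3) (Fin 3) F) a b = app g (ee b) a := fun a b => by
      simp [ee, Matrix.col]
    let e : Fin 3 ≃ Fin 3 := Equiv.ofBijective ![i, j, k]
      (Finite.injective_iff_bijective.1 (by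
        intro x y hxy
        fin_cases x <;> fin_cases y <;>
          simp [hij, hik, hjk, hij.symm, hik.symm, hjk.symm] at hxy ⊢))
    have e0 : e 0 = i := rfl
    have e1 : e 1 = j := rfl
    have e2 : e 2 = k := rfl
    rw [← Matrix.det_submatrix_equiv_self e, Matrix.det_fin_three] at h1
    simp only [Matrix.submatrix_apply, e0, e1, e2, hcol, hgk, hmove i hik, hmove j hjk] at h1
    have q1 : (c • ee k : V3 F) i = 0 := by simp [ee, hik]
    have q2 : (c • ee k : V3 F) j = 0 := by simp [ee, hjk]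
    have q3 : (c • ee k : V3 F) k = c := by simp [ee]
    rw [q1, q2, q3] at h1
    linear_combination h1
  have hc : c ≠ 0 := fun h => by rw [h, zero_mul] at hdet; exact zero_ne_one hdet
  have hD : p * s - q * r ≠ 0 := fun h => by rw [h, mul_zero] at hdet; exact zero_ne_one hdet
  by_cases hz : p = 0 ∨ r = 0 ∨ q = 0 ∨ s = 0
  · -- a zero: the block is triangular after a swap
    by_cases hz1 : p = 0 ∨ r = 0
    · by_cases hz2 : q = 0 ∨ s = 0
      · exfalso
        apply hgm
        intro x
        rcases eq_of_three hij hik hjk x with hxe | hxe | hxe <;> rw [hxe]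
        · rcases hz1 with h | h
          · exact ⟨j, fun y hy => by rw [hi, h]; simp [ee, hy]⟩
          · exact ⟨i, fun y hy => by rw [hi, h]; simp [ee, hy]⟩
        · rcases hz2 with h | h
          · exact ⟨j, fun y hy => by rw [hj, h]; simp [ee, hy]⟩
          · exact ⟨i, fun y hy => by rw [hj, h]; simp [ee, hy]⟩
        · exact ⟨k, fun y hy => by rw [hgk]; simp [ee, hy]⟩
      · push Not at hz2
        exact sl_le_of_block_zero hM hq hg hij hik hjk hi hj hz1 hz2.1 hz2.2
    · push Not at hz1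
      refine sl_le_of_block_zero hM hq hg hji hjk hik (p := s) (r := q) (q := r) (s := p) ?_ ?_ ?_
        hz1.2 hz1.1
      · rw [hj, add_comm]
      · rw [hi, add_comm]
      · rcases hz with h | h | h | h
        · exact absurd h hz1.1
        · exact absurd h hz1.2
        · exact Or.inr h
        · exact Or.inl h
  push Not at hz
  obtain ⟨hp, hr, hq0, hs⟩ := hz
  by_cases hgen : p * s + q * r = 0
  swap
  · exact sl_le_of_block_generic hM hq hg hij hik hjk hi hj hp hr hq0 hs hD hgen
  by_cases h5 : Fintype.card F = 5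
  · exact sl_le_of_block_five hM hq h5 hg (hSL hg) hij hik hjk hi hj hgk hp hr hq0 hdet hgen
  -- another conjugate is generic
  classical
  obtain ⟨x, hx⟩ : ∃ x : F, x ∉ insert (0 : F) (Polynomial.nthRoots 4 (1 : F)).toFinset := by
    by_contra! hall
    have h1 := Finset.card_le_card (s := (Finset.univ : Finset F)) (fun x _ => hall x)
    have h2 := Finset.card_insert_le (0 : F) (Polynomial.nthRoots 4 (1 : F)).toFinset
    have h3 := Multiset.toFinset_card_le (Polynomial.nthRoots 4 (1 : F))
    have h4 := Polynomial.card_nthRoots 4 (1 : F)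
    rw [Finset.card_univ] at h1
    omega
  rw [Finset.mem_insert, Multiset.mem_toFinset, Polynomial.mem_nthRoots (by norm_num)] at hx
  push Not at hx
  obtain ⟨hx0, hx4⟩ := hx
  have hqr : q * r = -(p * s) := by linear_combination hgen
  have hps := mul_ne_zero hp hs
  have h2 : (2 : F) ≠ 0 := fun h => hD (by rw [hqr]; linear_combination p * s * h)
  have hx1 : 1 + x ≠ 0 := fun h => hx4 (by
    rw [show x = -1 by linear_combination h]; norm_num)
  have hx1' : x - 1 ≠ 0 := fun h => hx4 (by rw [sub_eq_zero.1 h, one_pow])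
  have hx2 : 1 + x * x ≠ 0 := fun h => hx4 (by linear_combination (x * x - 1) * h)
  obtain ⟨y, hy, hyi, hyj⟩ := block_conj hM hq hg hij hik hjk hi hj hD hx0
  refine sl_le_of_block_generic hM hq hy hij hik hjk hyi hyj ?_ ?_ ?_ ?_ ?_ ?_
  · refine div_ne_zero ?_ hD
    rw [hqr, show p * s * x - -(p * s) = p * s * (1 + x) by ring]
    exact mul_ne_zero hps hx1
  · exact div_ne_zero (mul_ne_zero (mul_ne_zero hr hs) hx1') hD
  · refine div_ne_zero (mul_ne_zero (mul_ne_zero hp hq0) ?_) hD
    rw [← neg_sub, neg_ne_zero]; exact hx1'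
  · refine div_ne_zero ?_ hD
    rw [hqr, show p * s - -(p * s) * x = p * s * (1 + x) by ring]
    exact mul_ne_zero hps hx1
  · rw [div_mul_div_comm, div_mul_div_comm, ← sub_div]
    refine div_ne_zero ?_ (mul_ne_zero hD hD)
    have : (p * s * x - q * r) * (p * s - q * r * x) -
        p * q * (1 - x) * (r * s * (x - 1)) = (p * s) * (p * s) * (2 * 2 * x) := by
      linear_combination ((p * s) * (1 - x) * (1 - x) + x * (q * r) - x * (p * s) -
        (p * s) * (1 + x * x)) * hqr
    rw [this]
    exact mul_ne_zero (mul_ne_zero hps hps) (mul_ne_zero (mul_ne_zero h2 h2) hx0)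
  · rw [div_mul_div_comm, div_mul_div_comm, ← add_div]
    refine div_ne_zero ?_ (mul_ne_zero hD hD)
    have : (p * s * x - q * r) * (p * s - q * r * x) +
        p * q * (1 - x) * (r * s * (x - 1)) = (p * s) * (p * s) * (2 * (1 + x * x)) := by
      linear_combination (-(p * s) * (1 - x) * (1 - x) + x * (q * r) - x * (p * s) -
        (p * s) * (1 + x * x)) * hqr
    rw [this]
    exact mul_ne_zero (mul_ne_zero hps hps) (mul_ne_zero h2 hx2)

end Cfsg.Agent.SL3Max
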