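/-
Overgroups of the monomial group of `SL₃(q)` in which monomial elements alone fix coordinate points:
the orbit of a coordinate point.
Main results:
* `MSetup`, `MSetup.no_two`
* `MSetup.card_mul`, `MSetup.card_fix`
-/
import Cfsg.Agent.Lib.SL3Max.MonoFix
import Cfsg.Agent.Lib.SL3Max.Orbits

set_option autoImplicit false
set_option linter.unusedSectionVars false

namespace Cfsg.Agent.SL3Max

open Cfsg.Agent.Transvect Module Matrix

variable {F : Type*} [Field F] [Fintype F]

/-- An overgroup of the monomial group in which monomial elements alone fix coordinate points. -/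
structure MSetup (M : Subgroup (GL (Fin 3) F)) : Prop where
  mono : ∀ g : GL (Fin 3) F, IsMono g → g ∈ Cfsg.Geo.specialLinear (Fin 3) F → g ∈ M
  five : 5 ≤ Fintype.card F
  sl : M ≤ Cfsg.Geo.specialLinear (Fin 3) F
  fix : ∀ g ∈ M, ∀ (k : Fin 3) (c : F), app g (ee k) = c • ee k → IsMono g

/-- The orbit of `e₀`. -/
def Om (G : Subgroup (GL (Fin 3) F)) : Set (V3 F) := {v | ∃ g ∈ G, app g (ee 0) = v}

/-- The stabiliser of `e₀`. -/
def fix0 (G : Subgroup (GL (Fin 3) F)) : Subgroup (GL (Fin 3) F) where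
  carrier := {g | g ∈ G ∧ app g (ee 0) = ee 0}
  one_mem' := ⟨one_mem G, by simp⟩
  mul_mem' {a b} ha hb := ⟨mul_mem ha.1 hb.1, by rw [map_mul, LinearEquiv.mul_apply, hb.2, ha.2]⟩
  inv_mem' {a} ha := ⟨inv_mem ha.1, by
    apply (app a).injective; rw [app_app_inv, ha.2]⟩

/-- Orbit times stabiliser. -/
lemma card_orbit_fix (G : Subgroup (GL (Fin 3) F)) :
    Nat.card G = (Om G).ncard * Nat.card (fix0 G) := by
  classical
  choose r hr hr' using fun v : Om G => v.2
  rw [← Nat.card_coe_set_eq, ← Nat.card_prod]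
  refine (Nat.card_eq_of_bijective
    (fun x : Om G × fix0 G => (⟨r x.1 * x.2.1, mul_mem (hr x.1) x.2.2.1⟩ : G)) ⟨?_, ?_⟩).symm
  · rintro ⟨v, a⟩ ⟨w, b⟩ h
    have h1 : r v * a.1 = r w * b.1 := congrArg Subtype.val h
    have h2 := congrArg (fun g => app g (ee 0)) h1
    simp only [map_mul, LinearEquiv.mul_apply, a.2.2, b.2.2, hr'] at h2
    obtain rfl := Subtype.ext h2
    exact Prod.ext rfl (Subtype.ext (mul_left_cancel h1))
  · rintro ⟨g, hg⟩
    set v : Om G := ⟨_, g, hg, rfl⟩
    refine ⟨⟨v, ⟨(r v)⁻¹ * g, mul_mem (inv_mem (hr v)) hg, ?_⟩⟩,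
      Subtype.ext (mul_inv_cancel_left (r v) g)⟩
    apply (app (r v)).injective
    rw [map_mul, LinearEquiv.mul_apply, app_app_inv, hr' v]

/-- The monomial part. -/
def monoPart (M : Subgroup (GL (Fin 3) F)) : Subgroup (GL (Fin 3) F) where
  carrier := {g | g ∈ M ∧ IsMono g}
  one_mem' := ⟨one_mem M, fun s => ⟨s, fun k hk => by simp [ee, hk]⟩⟩
  mul_mem' ha hb := ⟨mul_mem ha.1 hb.1, ha.2.mul hb.2⟩
  inv_mem' ha := ⟨inv_mem ha.1, ha.2.inv⟩

/-- The multiples of the coordinate vectors. -/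
def coords (F : Type*) [Field F] : Set (V3 F) :=
  Set.range fun p : Fin 3 × Fˣ => (p.2 : F) • ee p.1

lemma ncard_coords : (coords F).ncard = 3 * (Fintype.card F - 1) := by
  rw [coords, Set.ncard_range_of_injective, Nat.card_prod, Nat.card_fin, Nat.card_units,
    Nat.card_eq_fintype_card]
  rintro ⟨i, a⟩ ⟨j, b⟩ h
  have h1 := congrFun h i
  simp only [Pi.smul_apply, ee, Pi.single_eq_same, smul_eq_mul, mul_one] at h1
  rcases eq_or_ne i j with rfl | hne
  · rw [Pi.single_eq_same, mul_one] at h1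
    exact Prod.ext rfl (Units.ext h1)
  · rw [Pi.single_eq_of_ne hne, mul_zero] at h1
    exact absurd h1 a.ne_zero

lemma perm_fix0 : ∀ π : Equiv.Perm (Fin 3), π 0 = 0 →
    ∃ b : Bool, (if b then Equiv.swap 1 2 else 1) = π := by decide

namespace MSetup

variable {M : Subgroup (GL (Fin 3) F)} (S : MSetup M)
include S

lemma exists_perm {i j k a b c : Fin 3} (hij : i ≠ j) (hik : i ≠ k) (hjk : j ≠ k) (hab : a ≠ b)
    (hac : a ≠ c) (hbc : b ≠ c) : ∃ π : Equiv.Perm (Fin 3), π i = a ∧ π j = b ∧ π k = c := by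
  revert i j k a b c
  intro i j k a b c
  clear S
  revert i j k a b c
  decide

/-- A monomial element with two prescribed columns. -/
lemma mono_map {i j k a b c : Fin 3} (hij : i ≠ j) (hik : i ≠ k) (hjk : j ≠ k) (hab : a ≠ b)
    (hac : a ≠ c) (hbc : b ≠ c) {u v : F} (hu : u ≠ 0) (hv : v ≠ 0) :
    ∃ g ∈ M, IsMono g ∧ app g (ee i) = u • ee a ∧ app g (ee j) = v • ee b ∧
      ∃ w : F, w ≠ 0 ∧ app g (ee k) = w • ee c := by
  obtain ⟨π, rfl, rfl, rfl⟩ := S.exists_perm hij hik hjk hab hac hbc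
  set s : F := ((Equiv.Perm.sign π : ℤ) : F)
  have hs : s * s = 1 := by
    rw [← Int.cast_mul, ← Units.val_mul, Int.units_mul_self, Units.val_one, Int.cast_one]
  have hs0 : s ≠ 0 := fun e => by rw [e, mul_zero] at hs; exact zero_ne_one hs
  have hw : s * (u * v)⁻¹ ≠ 0 := mul_ne_zero hs0 (inv_ne_zero (mul_ne_zero hu hv))
  set d : Fin 3 → Fˣ := fun x =>
    if x = i then Units.mk0 u hu else if x = j then Units.mk0 v hv else Units.mk0 _ hw
  have hdi : (d i : F) = u := by simp [d]
  have hdj : (d j : F) = v := by simp [d, hij.symm]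
  have hdk : (d k : F) = s * (u * v)⁻¹ := by simp [d, hik.symm, hjk.symm]
  refine ⟨pg π * dg d, S.mono _ (isMono_pg_dg π d) ?_, isMono_pg_dg π d, ?_, ?_, _, hw, ?_⟩
  · rw [mem_sl_iff, det_pg_dg, prod_three hij hik hjk, hdi, hdj, hdk]
    calc s * (u * v * (s * (u * v)⁻¹)) = s * s * (u * v * (u * v)⁻¹) := by ring
      _ = 1 := by rw [hs, one_mul, mul_inv_cancel₀ (mul_ne_zero hu hv)]
  all_goals rw [app_pg_dg_ee]
  · rw [hdi]
  · rw [hdj]
  · rw [hdk]

lemma exists_col (s : Fin 3) {u : F} (hu : u ≠ 0) (a : Fin 3) :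
    ∃ g ∈ M, IsMono g ∧ app g (ee s) = u • ee a := by
  obtain ⟨j, hjs, -⟩ := exists_third s s
  obtain ⟨k, hks, hkj⟩ := exists_third s j
  obtain ⟨b, hba, -⟩ := exists_third a a
  obtain ⟨c, hca, hcb⟩ := exists_third a b
  obtain ⟨g, hg, hm, h1, -⟩ :=
    S.mono_map hjs.symm hks.symm hkj.symm hba.symm hca.symm hcb.symm hu (one_ne_zero (α := F))
  exact ⟨g, hg, hm, h1⟩

lemma col_mem_Om {g : GL (Fin 3) F} (hg : g ∈ M) (s : Fin 3) : app g (ee s) ∈ Om M := by
  obtain ⟨h, hh, -, hh1⟩ := S.exists_col 0 (one_ne_zero (α := F)) s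
  exact ⟨g * h, mul_mem hg hh, by rw [map_mul, LinearEquiv.mul_apply, hh1, one_smul]⟩

/-- A column with one entry. -/
lemma mono_of_single {g : GL (Fin 3) F} (hg : g ∈ M) {s r : Fin 3}
    (h : ∀ x, x ≠ r → app g (ee s) x = 0) : IsMono g := by
  have hgs : app g (ee s) = app g (ee s) r • ee r := by
    funext x
    by_cases hx : x = r
    · subst hx; simp [ee]
    · simp [ee, hx, h x hx]
  obtain ⟨μ, hμ, hμm, hμ1⟩ := S.exists_col r (one_ne_zero (α := F)) s
  have h1 := S.fix (μ * g) (mul_mem hμ hg) s (app g (ee s) r)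
    (by rw [map_mul, LinearEquiv.mul_apply, hgs, map_smul, hμ1, one_smul, ← hgs])
  have h2 := hμm.inv.mul h1
  rwa [inv_mul_cancel_left] at h2

lemma smul_mem_Om {v : V3 F} (hv : v ∈ Om M) {b : F} (hb : b ≠ 0) : b • v ∈ Om M := by
  obtain ⟨g, hg, rfl⟩ := hv
  obtain ⟨h, hh, -, hh1⟩ := S.exists_col 0 hb 0
  exact ⟨g * h, mul_mem hg hh, by rw [map_mul, LinearEquiv.mul_apply, hh1, map_smul]⟩

lemma coords_subset_Om : coords F ⊆ Om M := by
  rintro _ ⟨⟨a, u⟩, rfl⟩
  obtain ⟨g, hg, -, h⟩ := S.exists_col 0 u.ne_zero a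
  exact ⟨g, hg, h⟩

lemma diag_mul_mem_Om {v : V3 F} (hv : v ∈ Om M) (c : Fin 3 → Fˣ) (hc : c 0 * c 1 * c 2 = 1) :
    (fun s => (c s : F) * v s) ∈ Om M := by
  obtain ⟨g, hg, rfl⟩ := hv
  have hc' : dg c ∈ M := S.mono _ (isMono_dg c) (by
    rw [mem_sl_iff, det_dg, Fin.prod_univ_three, ← Units.val_mul, ← Units.val_mul, hc,
      Units.val_one])
  exact ⟨dg c * g, mul_mem hc' hg, funext fun s => by rw [map_mul, LinearEquiv.mul_apply, app_dg]⟩

/-- A column with a zero, when some torus element has three cube classes. -/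
lemma no_two {a : F} (ha : a ≠ 0) (ha3 : a ^ 3 ≠ 1) (ha3' : a ^ 3 ≠ -1) {g : GL (Fin 3) F}
    (hg : g ∈ M) {s k : Fin 3} (hk : app g (ee s) k = 0) : IsMono g := by
  by_contra hgm
  obtain ⟨i, hik, -⟩ := exists_third k k
  obtain ⟨j, hjk, hji⟩ := exists_third k i
  have haa := mul_ne_zero ha ha
  obtain ⟨d, hd, hdi, hdj, hdk⟩ := diag_mem S.mono hji.symm hik hjk ha ha (inv_ne_zero haa)
    (mul_inv_cancel₀ haa)
  set b := (a * a)⁻¹
  have hba : b ≠ a := fun h => ha3 (by
    have h1 : b * (a * a) = 1 := inv_mul_cancel₀ haa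
    rw [h] at h1; rw [← h1]; ring)
  have hdv : ∀ v : V3 F, app d v = a • v + ((b - a) * v k) • ee k := fun v => by
    conv_lhs => rw [expand3 hji.symm hik hjk v]
    conv_rhs => rw [expand3 hji.symm hik hjk v]
    simp only [map_add, map_smul, hdi, hdj, hdk]
    simp [ee, hik.symm, hjk.symm]
    module
  set y := g⁻¹ * d * g
  have hy : y ∈ M := mul_mem (mul_mem (inv_mem hg) hd) hg
  have hys : app y (ee s) = a • ee s := by
    simp only [y, map_mul, LinearEquiv.mul_apply, hdv, hk, mul_zero, zero_smul, add_zero,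
      map_smul, app_inv_app]
  obtain ⟨π, c, hyc⟩ := exists_of_isMono (S.fix y hy s a hys)
  have hyx : ∀ x, app y (ee x) = (c x : F) • ee (π x) := fun x => by rw [hyc, app_pg_dg_ee]
  have hgy : ∀ x, app d (app g (ee x)) = (c x : F) • app g (ee (π x)) := fun x => by
    rw [← map_smul, ← hyx, ← LinearEquiv.mul_apply, ← LinearEquiv.mul_apply, ← map_mul, ← map_mul,
      show g * y = d * g by simp [y, mul_assoc]]
  have hπs : π s = s := by
    have h := congrFun ((hyx s).symm.trans hys) s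
    by_contra hne
    simp [ee, Ne.symm hne] at h
    exact ha h.symm
  -- each fixed index is in the plane
  have hplane : ∀ x, π x = x → app g (ee x) k = 0 := by
    intro x hx
    by_contra hne
    have h := hgy x
    rw [hx, hdv] at h
    refine hgm (S.mono_of_single hg (s := x) (r := k) fun z hz => ?_)
    generalize app g (ee x) = w at h hne ⊢
    have h1 := congrFun h k
    simp [ee] at h1
    have hcx : (c x : F) = b := mul_right_cancel₀ hne (by linear_combination -h1)
    have h2 := congrFun h z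
    simp [ee, hz, hcx] at h2
    rcases h2 with h2 | h2
    · exact absurd h2.symm hba
    · exact h2
  by_cases hall : ∀ x, π x = x
  · -- singular
    obtain ⟨v, hv⟩ : ∃ v, app g v = ee k := ⟨_, app_app_inv g (ee k)⟩
    have h1 := congrFun hv k
    rw [expand3 hji.symm hik hjk v, map_add, map_add, map_smul, map_smul, map_smul] at h1
    rw [Pi.add_apply, Pi.add_apply, Pi.smul_apply, Pi.smul_apply, Pi.smul_apply,
      hplane i (hall i), hplane j (hall j), hplane k (hall k)] at h1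
    simp [ee] at h1
  · push Not at hall
    obtain ⟨x, hx⟩ := hall
    have hxs : x ≠ s := fun h => hx (by rw [h, hπs])
    set z := π x
    have hzs : z ≠ s := fun h => hxs (π.injective (h.trans hπs.symm))
    have hzx : π z = x := by
      rcases eq_of_three hxs (Ne.symm hx) (Ne.symm hzs) (π z) with h | h | h
      · exact h
      · exact absurd (π.injective (h.trans hπs.symm)) hzs
      · exact absurd (π.injective h) hx
    have hquad : app d (app d (app g (ee x))) - (a + b) • app d (app g (ee x)) +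
        (a * b) • app g (ee x) = 0 := by
      rw [hdv (app g (ee x)), map_add, map_smul, map_smul, hdk, hdv (app g (ee x))]
      module
    rw [hgy x, map_smul, hgy z, hzx, smul_smul, smul_smul] at hquad
    rw [← map_smul, ← map_smul, ← map_smul, ← map_sub, ← map_add,
      map_eq_zero_iff _ (app g).injective] at hquad
    have h3 := congrFun hquad z
    simp [ee, hx] at h3
    have hab : a + b = 0 := h3.resolve_right (by simp [z])
    refine ha3' ?_
    have hb1 : b * (a * a) = 1 := inv_mul_cancel₀ haa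
    linear_combination (a * a) * hab - hb1

/-- The stabiliser of `e₀`. -/
lemma card_fix : Nat.card (fix0 M) = 2 * (Fintype.card F - 1) := by
  classical
  let τ : Bool → Equiv.Perm (Fin 3) := fun b => if b then Equiv.swap 1 2 else 1
  have hτ0 : ∀ b, τ b 0 = 0 := fun b => by cases b <;> decide
  let ε : Bool → Fˣ := fun b => if b then -1 else 1
  have hε : ∀ b, ((Equiv.Perm.sign (τ b) : ℤ) : F) * (ε b : F) = 1 := fun b => by
    cases b <;> simp [τ, ε]
  let el : Fˣ × Bool → GL (Fin 3) F := fun p => pg (τ p.2) * dg ![1, p.1, p.1⁻¹ * ε p.2]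
  have hel : ∀ p, el p ∈ fix0 M := fun p => by
    refine ⟨S.mono _ (isMono_pg_dg _ _) ?_, ?_⟩
    · rw [mem_sl_iff, det_pg_dg, Fin.prod_univ_three]
      simp only [Matrix.cons_val_zero, Matrix.cons_val_one, Matrix.cons_val, Units.val_one, one_mul,
        Units.val_mul]
      rw [← mul_assoc (p.1 : F), Units.mul_inv, one_mul]
      exact hε p.2
    · rw [app_pg_dg_ee, hτ0]; simp
  rw [← Nat.card_eq_of_bijective (fun p : Fˣ × Bool => (⟨el p, hel p⟩ : fix0 M)) ⟨?_, ?_⟩,
    Nat.card_prod, Nat.card_units, Nat.card_eq_fintype_card, Nat.card_eq_fintype_card,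
    Fintype.card_bool, mul_comm]
  · rintro ⟨u, b⟩ ⟨u', b'⟩ h
    have h1 := congrArg (fun g : fix0 M => app g.1 (ee 1)) h
    simp only [el, app_pg_dg_ee] at h1
    simp only [Matrix.cons_val_one, Matrix.cons_val_zero] at h1
    have hb : b = b' := by
      by_contra hne
      cases b <;> cases b' <;> simp at hne
      · have := congrFun h1 1; simp [τ, ee] at this
      · have := congrFun h1 1; simp [τ, ee] at this; exact u'.ne_zero this.symm
    subst hb
    have h2 := congrFun h1 (τ b 1)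
    simp [ee] at h2
    exact Prod.ext (Units.ext h2) rfl
  · rintro ⟨g, hg, hg0⟩
    obtain ⟨π, c, rfl⟩ := exists_of_isMono (S.fix g hg 0 1 (by rw [hg0, one_smul]))
    rw [app_pg_dg_ee] at hg0
    have hπ0 : π 0 = 0 := by
      by_contra hne
      simpa [ee, hne, Ne.symm hne] using congrFun hg0 0
    rw [hπ0] at hg0
    have hc0 : c 0 = 1 := Units.ext (by simpa [ee] using congrFun hg0 0)
    obtain ⟨b, rfl⟩ : ∃ b, τ b = π := perm_fix0 π hπ0
    have hdet := mem_sl_iff.1 (S.sl hg)
    rw [det_pg_dg, Fin.prod_univ_three, hc0, Units.val_one, one_mul] at hdet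
    refine ⟨(c 1, b), Subtype.ext ?_⟩
    show pg (τ b) * dg _ = _
    congr 2
    funext x
    fin_cases x
    · exact hc0.symm
    · rfl
    · refine Units.ext (mul_left_cancel₀ (c 1).ne_zero ?_)
      show (c 1 : F) * (((c 1)⁻¹ * ε b : Fˣ) : F) = (c 1 : F) * c 2
      rw [Units.val_mul, ← mul_assoc, Units.mul_inv, one_mul]
      have hs : (ε b : F) * (ε b : F) = 1 := by cases b <;> simp [ε]
      linear_combination ((c 1 : F) * c 2) * hε b - (ε b : F) * hdet

/-- The order of the group. -/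
lemma card_mul : Nat.card M = (Om M).ncard * (2 * (Fintype.card F - 1)) := by
  rw [card_orbit_fix, S.card_fix]

lemma card_monoPart : Nat.card (monoPart M) = 3 * (Fintype.card F - 1) * (2 * (Fintype.card F - 1)) := by
  have hfix : fix0 (monoPart M) = fix0 M := le_antisymm (fun g hg => ⟨hg.1.1, hg.2⟩)
    (fun g hg => ⟨⟨hg.1, S.fix g hg.1 0 1 (by rw [hg.2, one_smul])⟩, hg.2⟩)
  have hOm : Om (monoPart M) = coords F := by
    refine Set.Subset.antisymm ?_ ?_
    · rintro v ⟨g, ⟨-, hgm⟩, rfl⟩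
      obtain ⟨π, c, rfl⟩ := exists_of_isMono hgm
      exact ⟨(π 0, c 0), by rw [app_pg_dg_ee]⟩
    · rintro _ ⟨⟨a, u⟩, rfl⟩
      obtain ⟨g, hg, hm, h⟩ := S.exists_col 0 u.ne_zero a
      exact ⟨g, ⟨hg, hm⟩, h⟩
  rw [card_orbit_fix, hfix, S.card_fix, hOm, ncard_coords]

end MSetup

end Cfsg.Agent.SL3Max
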