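/-
Classes of triples of units by their product modulo cubes.
Main results:
* `exists_cube_root_one`
* `card_cubeKer`
* `card_invariant_classes`
-/
import Cfsg.Agent.EqLemmas

set_option autoImplicit false
set_option linter.unusedSectionVars false

namespace Cfsg.Agent.SL3Max

variable {F : Type*} [Field F] [Fintype F]

/-- `c ↦ ((c₀ c₁ c₂))^m`. -/
def prodPow (F : Type*) [Field F] (m : ℕ) : (Fin 3 → Fˣ) →* Fˣ where
  toFun c := (c 0 * c 1 * c 2) ^ m
  map_one' := by simp
  map_mul' a b := by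
    rw [← mul_pow]; congr 1
    simp only [Pi.mul_apply]
    ac_rfl

lemma prodPow_apply (m : ℕ) (c : Fin 3 → Fˣ) : prodPow F m c = (c 0 * c 1 * c 2) ^ m := rfl

section three

variable {m : ℕ} (hm : Fintype.card F = 3 * m + 1)
include hm

lemma card_units_three : Nat.card Fˣ = 3 * m := by
  rw [Nat.card_units, Nat.card_eq_fintype_card, hm]; omega

lemma pow_three_mul (x : Fˣ) : x ^ (3 * m) = 1 := by
  rw [← card_units_three hm]; exact pow_card_eq_one'

/-- A primitive cube root of unity. -/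
lemma exists_cube_root_one : ∃ ω : F, ω ^ 3 = 1 ∧ ω ≠ 1 := by
  haveI : Fact (Nat.Prime 3) := ⟨Nat.prime_three⟩
  obtain ⟨x, hx⟩ := exists_prime_orderOf_dvd_card' (G := Fˣ) 3
    (by rw [card_units_three hm]; exact dvd_mul_right 3 m)
  refine ⟨(x : F), ?_, fun h => ?_⟩
  · rw [← Units.val_pow_eq_pow_val, ← hx, pow_orderOf_eq_one, Units.val_one]
  · rw [Units.val_eq_one] at h
    rw [h, orderOf_one] at hx
    norm_num at hx

lemma three_ne_zero_of_three : (3 : F) ≠ 0 := fun h => by
  have h1 := FiniteField.cast_card_eq_zero F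
  rw [hm, Nat.cast_add, Nat.cast_mul, Nat.cast_one, Nat.cast_ofNat, h, zero_mul, zero_add] at h1
  exact one_ne_zero h1

/-- The values of the power `m`. -/
lemma mem_range_prodPow {z : Fˣ} : z ∈ (prodPow F m).range ↔ z ^ 3 = 1 := by
  constructor
  · rintro ⟨c, rfl⟩
    rw [prodPow_apply, ← pow_mul, mul_comm m 3, pow_three_mul hm]
  · intro hz
    have hcyc : IsCyclic Fˣ := inferInstance
    obtain ⟨g, hg⟩ := hcyc.exists_generator
    obtain ⟨j, hj⟩ := Subgroup.mem_zpowers_iff.1 (hg z)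
    have hord : orderOf g = 3 * m := by
      rw [orderOf_eq_card_of_forall_mem_zpowers hg, card_units_three hm]
    have h1 : g ^ (j * 3) = 1 := by
      rw [zpow_mul, hj]; exact_mod_cast hz
    rw [← orderOf_dvd_iff_zpow_eq_one, hord] at h1
    obtain ⟨i, hi⟩ : (m : ℤ) ∣ j := by
      obtain ⟨i, hi⟩ := h1
      exact ⟨i, by push_cast at hi; linarith⟩
    refine ⟨![g ^ i, 1, 1], ?_⟩
    rw [prodPow_apply]
    simp only [Matrix.cons_val_zero, Matrix.cons_val_one, Matrix.cons_val, mul_one]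
    rw [← hj, hi, mul_comm (m : ℤ) i, zpow_mul, zpow_natCast]

/-- An element with trivial power `m` is a cube. -/
lemma exists_cube_of_pow {x : Fˣ} (hx : x ^ m = 1) : ∃ y : Fˣ, y ^ 3 = x := by
  have hcyc : IsCyclic Fˣ := inferInstance
  obtain ⟨g, hg⟩ := hcyc.exists_generator
  obtain ⟨j, hj⟩ := Subgroup.mem_zpowers_iff.1 (hg x)
  have hord : orderOf g = 3 * m := by
    rw [orderOf_eq_card_of_forall_mem_zpowers hg, card_units_three hm]
  have h1 : g ^ (j * m) = 1 := by
    rw [zpow_mul, hj]; exact_mod_cast hx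
  rw [← orderOf_dvd_iff_zpow_eq_one, hord] at h1
  have hm0 : (m : ℤ) ≠ 0 := by
    have := Fintype.one_lt_card (α := F); omega
  obtain ⟨i, hi⟩ : (3 : ℤ) ∣ j := by
    obtain ⟨i, hi⟩ := h1
    exact ⟨i, mul_right_cancel₀ hm0 (by push_cast at hi; linarith)⟩
  exact ⟨g ^ i, by rw [← hj, hi, mul_comm (3 : ℤ) i, zpow_mul]; norm_cast⟩

/-- Triples with equal powers differ by a scalar and a triple of product one. -/
lemma exists_split {c : Fin 3 → Fˣ} (hc : prodPow F m c = 1) :
    ∃ (b : Fˣ) (d : Fin 3 → Fˣ), d 0 * d 1 * d 2 = 1 ∧ ∀ s, c s = b * d s := by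
  obtain ⟨b, hb⟩ := exists_cube_of_pow hm hc
  refine ⟨b, fun s => b⁻¹ * c s, ?_, fun s => by rw [mul_inv_cancel_left]⟩
  calc b⁻¹ * c 0 * (b⁻¹ * c 1) * (b⁻¹ * c 2) = (b ^ 3)⁻¹ * (c 0 * c 1 * c 2) := by
        rw [← inv_pow, pow_succ, pow_two]; ac_rfl
    _ = 1 := by rw [hb, inv_mul_cancel]

lemma card_range_prodPow : Nat.card (prodPow F m).range = 3 := by
  classical
  obtain ⟨ω, hω, hω1⟩ := exists_cube_root_one hm
  have hω0 : ω ≠ 0 := fun h => by rw [h] at hω; norm_num at hω
  set w := Units.mk0 ω hω0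
  have hw : w ^ 3 = 1 := Units.ext (by simpa [w] using hω)
  have hw1 : w ≠ 1 := fun h => hω1 (by simpa [w] using congrArg Units.val h)
  have hset : ((prodPow F m).range : Set Fˣ) = {1, w, w ^ 2} := by
    ext z
    rw [SetLike.mem_coe, mem_range_prodPow hm]
    constructor
    · intro hz
      have hzF : ((z : F) - 1) * ((z : F) - ω) * ((z : F) - ω ^ 2) = 0 := by
        have h3 : (z : F) ^ 3 = 1 := by rw [← Units.val_pow_eq_pow_val, hz, Units.val_one]
        have hs : 1 + ω + ω ^ 2 = 0 := by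
          refine (mul_eq_zero.1 (?_ : (ω - 1) * (1 + ω + ω ^ 2) = 0)).resolve_left
            (sub_ne_zero.2 hω1)
          linear_combination hω
        linear_combination h3 - hω + ((z : F) * ω - (z : F) ^ 2) * hs
      rcases mul_eq_zero.1 hzF with h | h
      · rcases mul_eq_zero.1 h with h | h
        · exact Or.inl (Units.ext (by simpa using sub_eq_zero.1 h))
        · exact Or.inr (Or.inl (Units.ext (by simpa [w] using sub_eq_zero.1 h)))
      · exact Or.inr (Or.inr (Units.ext (by simpa [w] using sub_eq_zero.1 h)))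
    · rintro (rfl | rfl | rfl)
      · simp
      · exact hw
      · rw [← pow_mul, mul_comm, pow_mul, hw, one_pow]
  rw [← SetLike.coe_sort_coe, Nat.card_coe_set_eq, hset, Set.ncard_eq_three]
  refine ⟨1, w, w ^ 2, hw1.symm, ?_, ?_, rfl⟩
  · intro h; exact hw1 (by rw [pow_succ, ← h, one_mul] at hw; exact hw)
  · intro h
    rw [pow_two] at h
    exact hw1 (by simpa using h)

lemma card_cubeKer : 3 * Nat.card (prodPow F m).ker = (3 * m) ^ 3 := by
  have h := (prodPow F m).ker.card_mul_index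
  rw [Subgroup.index_ker, card_range_prodPow hm, mul_comm, Nat.card_pi, Finset.prod_const,
    Finset.card_univ, Fintype.card_fin, card_units_three hm] at h
  exact h

/-- An invariant set of triples is a union of at most three classes. -/
lemma card_invariant_classes (S : Set (Fin 3 → Fˣ))
    (hS : ∀ c ∈ S, ∀ e, prodPow F m e = 1 → e * c ∈ S) :
    ∃ K : Set Fˣ, K.ncard ≤ 3 ∧ 3 * Nat.card S = K.ncard * (3 * m) ^ 3 ∧
      (∀ z, z ∈ K ↔ ∃ c ∈ S, prodPow F m c = z) := by
  classical
  set K := prodPow F m '' S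
  refine ⟨K, ?_, ?_, fun z => Iff.rfl⟩
  · rw [← card_range_prodPow hm, ← SetLike.coe_sort_coe, Nat.card_coe_set_eq]
    exact Set.ncard_le_ncard (fun z hz => by obtain ⟨c, -, rfl⟩ := hz; exact ⟨c, rfl⟩)
  · choose r hrS hr using fun z : K => z.2
    have hmemS : ∀ (z : K) (e : (prodPow F m).ker), e.1 * r z ∈ S :=
      fun z e => hS _ (hrS z) _ e.2
    have hbij : Function.Bijective
        (fun x : K × (prodPow F m).ker => (⟨x.2.1 * r x.1, hmemS x.1 x.2⟩ : S)) := by
      constructor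
      · rintro ⟨z, e⟩ ⟨z', e'⟩ h
        have h1 : e.1 * r z = e'.1 * r z' := congrArg Subtype.val h
        have h2 := congrArg (prodPow F m) h1
        rw [map_mul, map_mul, e.2, e'.2, one_mul, one_mul, hr, hr] at h2
        obtain rfl := Subtype.ext h2
        exact Prod.ext rfl (Subtype.ext (mul_right_cancel h1))
      · rintro ⟨c, hc⟩
        let z : K := ⟨prodPow F m c, c, hc, rfl⟩
        refine ⟨⟨z, ⟨c * (r z)⁻¹, ?_⟩⟩, Subtype.ext (inv_mul_cancel_right c (r z))⟩
        rw [MonoidHom.mem_ker, map_mul, map_inv, hr, mul_inv_cancel]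
    rw [← Nat.card_eq_of_bijective _ hbij, Nat.card_prod, ← card_cubeKer hm, Nat.card_coe_set_eq]
    ring

end three

end Cfsg.Agent.SL3Max
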