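/-
A single class in the orbit of a coordinate point forces `q ≤ 6`.
Main results:
* `MSetup.one_class`
-/
import Cfsg.Agent.Lib.SL3Max.MonoOrbit
import Cfsg.Agent.Lib.SL3Max.MonoUnits

set_option autoImplicit false
set_option linter.unusedSectionVars false

namespace Cfsg.Agent.SL3Max

open Cfsg.Agent.Transvect Module Matrix

variable {F : Type*} [Field F] [Fintype F] {M : Subgroup (GL (Fin 3) F)}

/-- Two full columns differ by a torus element up to a scalar. -/
def OneClass (M : Subgroup (GL (Fin 3) F)) : Prop :=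
  ∀ v ∈ Om M, ∀ w ∈ Om M, (∀ s, v s ≠ 0) → (∀ s, w s ≠ 0) →
    ∃ (b : F) (c : Fin 3 → Fˣ), c 0 * c 1 * c 2 = 1 ∧ ∀ s, w s = b * ((c s : F) * v s)

namespace MSetup

variable (S : MSetup M)
include S

/-- The shape of an element outside the monomial group. -/
lemma shape (hzero : ∀ g ∈ M, ∀ s k, app g (ee s) k = 0 → IsMono g) (h1 : OneClass M)
    (h3 : (3 : F) ≠ 0) {g : GL (Fin 3) F} (hg : g ∈ M) (hgm : ¬ IsMono g) {x z r : Fin 3}
    (hxz : x ≠ z) (hxr : x ≠ r) (hzr : z ≠ r) :
    ∃ (b b' w : F), b ≠ 0 ∧ b' ≠ 0 ∧ w ^ 3 = 1 ∧ w ≠ 1 ∧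
      ∀ l : Fin 3, app g (ee z) l = b * (w ^ (l : ℕ) * app g (ee x) l) ∧
        app g (ee r) l = b' * (w ^ (2 * (l : ℕ)) * app g (ee x) l) := by
  classical
  have hfull : ∀ s l, app g (ee s) l ≠ 0 := fun s l h => hgm (hzero g hg s l h)
  obtain ⟨b, c, hc, hb⟩ := h1 _ (S.col_mem_Om hg x) _ (S.col_mem_Om hg z) (hfull x) (hfull z)
  have hb0 : b ≠ 0 := fun h => hfull z 0 (by rw [hb, h, zero_mul])
  have hd : dg c ∈ M := S.mono _ (isMono_dg c) (by
    rw [mem_sl_iff, det_dg, Fin.prod_univ_three, ← Units.val_mul, ← Units.val_mul, hc,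
      Units.val_one])
  set y := g⁻¹ * dg c * g
  have hy : y ∈ M := mul_mem (mul_mem (inv_mem hg) hd) hg
  have hyx : app y (ee x) = b⁻¹ • ee z := by
    simp only [y, map_mul, LinearEquiv.mul_apply]
    rw [show app (dg c) (app g (ee x)) = b⁻¹ • app g (ee z) from funext fun l => by
      rw [app_dg, Pi.smul_apply, hb, smul_eq_mul, ← mul_assoc b⁻¹, inv_mul_cancel₀ hb0, one_mul],
      map_smul, app_inv_app]
  obtain ⟨π, e, hye⟩ := exists_of_isMono (S.mono_of_single hy (s := x) (r := z) fun l hl => by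
    rw [hyx]; simp [ee, hl])
  have hys : ∀ s, app y (ee s) = (e s : F) • ee (π s) := fun s => by rw [hye, app_pg_dg_ee]
  have hgy : ∀ s l, (c l : F) * app g (ee s) l = (e s : F) * app g (ee (π s)) l := fun s l => by
    have h : app (dg c) (app g (ee s)) = (e s : F) • app g (ee (π s)) := by
      rw [← map_smul, ← hys, ← LinearEquiv.mul_apply, ← LinearEquiv.mul_apply, ← map_mul,
        ← map_mul, show g * y = dg c * g by simp [y, mul_assoc]]
    have := congrFun h l
    rwa [app_dg] at this
  have hπx : π x = z := by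
    by_contra hne
    have h := congrFun ((hys x).symm.trans hyx) (π x)
    simp [ee, hne] at h
  -- no fixed index: the third would be an eigenvector with full support
  have hnofix : ∀ s, π s ≠ s := by
    intro s hs
    have hcs : ∀ l, (c l : F) = e s := fun l => mul_right_cancel₀ (hfull s l) (by
      have := hgy s l; rwa [hs] at this)
    have hxz' : app g (ee z) = (b * (e s : F)) • app g (ee x) := funext fun l => by
      rw [Pi.smul_apply, hb, hcs, smul_eq_mul, mul_assoc]
    rw [← map_smul] at hxz'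
    have := congrFun ((app g).injective hxz') z
    simp [ee, hxz.symm] at this
  have hπz : π z = r := by
    rcases eq_of_three hxz hxr hzr (π z) with h | h | h
    · exfalso
      refine hnofix r ?_
      rcases eq_of_three hxz hxr hzr (π r) with h' | h' | h'
      · exact absurd (π.injective (h'.trans h.symm)) hzr.symm
      · exact absurd (π.injective (h'.trans hπx.symm)) hxr.symm
      · exact h'
    · exact absurd h (hnofix z)
    · exact h
  have hπr : π r = x := by
    rcases eq_of_three hxz hxr hzr (π r) with h | h | h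
    · exact h
    · exact absurd (π.injective (h.trans hπx.symm)) hxr.symm
    · exact absurd h (hnofix r)
  -- cubes agree
  have hcube : ∀ l, (c l : F) ^ 3 = (e x : F) * e z * e r := fun l => by
    have q1 := hgy x l
    have q2 := hgy z l
    have q3 := hgy r l
    rw [hπx] at q1
    rw [hπz] at q2
    rw [hπr] at q3
    refine mul_right_cancel₀ (hfull x l) ?_
    linear_combination (c l : F) ^ 2 * q1 + (c l : F) * (e x : F) * q2 + (e x : F) * (e z : F) * q3
  -- the trace
  have hsum : (c 0 : F) + c 1 + c 2 = 0 := by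
    have hdiag : ∀ i, (y : Matrix (Fin 3) (Fin 3) F) i i = 0 := fun i => by
      have h := congrFun (hys i) i
      simp only [app_apply, ee, Matrix.mulVec_single, MulOpposite.op_one, one_smul, Matrix.col_apply,
        Pi.smul_apply, Pi.single_eq_of_ne (Ne.symm (hnofix i)), smul_zero] at h
      exact h
    have h0 : Matrix.trace (y : Matrix (Fin 3) (Fin 3) F) = 0 := by
      simp [Matrix.trace, hdiag]
    rw [show (y : Matrix (Fin 3) (Fin 3) F) = ((g⁻¹ : GL (Fin 3) F) : Matrix (Fin 3) (Fin 3) F) *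
      ((dg c : GL (Fin 3) F) : Matrix (Fin 3) (Fin 3) F) * (g : Matrix (Fin 3) (Fin 3) F) from rfl,
      Matrix.trace_units_conj'] at h0
    simpa [Matrix.trace, dg, Fin.sum_univ_three] using h0
  set c0 := (c 0 : F)
  have hc0 : c0 ≠ 0 := (c 0).ne_zero
  set w := (c 1 : F) / c0
  set w' := (c 2 : F) / c0
  have hK : ∀ l, ((c l : F) / c0) ^ 3 = 1 := fun l => by
    rw [div_pow, hcube l, ← hcube 0, div_self (pow_ne_zero 3 hc0)]
  have hww : 1 + w + w' = 0 := by
    rw [show 1 + w + w' = (c0 + c 1 + c 2) / c0 by simp [w, w']; field_simp, hsum, zero_div]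
  have hw1 : w ≠ 1 := fun h => by
    have h' : w' = -2 := by linear_combination hww - h
    have := hK 2
    rw [show (c 2 : F) / c0 = w' from rfl, h'] at this
    exact h3 (mul_left_cancel₀ h3 (by linear_combination -this : (3 : F) * 3 = 3 * 0))
  have hw3 : w ^ 3 = 1 := hK 1
  have hquad : 1 + w + w ^ 2 = 0 := by
    refine (mul_eq_zero.1 (?_ : (w - 1) * (1 + w + w ^ 2) = 0)).resolve_left (sub_ne_zero.2 hw1)
    linear_combination hw3
  have hcl : ∀ l : Fin 3, (c l : F) = c0 * w ^ (l : ℕ) := by
    intro l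
    fin_cases l
    · simp [c0]
    · simp [w]; field_simp
    · have h2 : w' = w ^ 2 := by linear_combination hww - hquad
      simp only [Fin.isValue]
      show (c 2 : F) = c0 * w ^ 2
      rw [← h2]
      simp [w']; field_simp
  have hez : (e z : F) ≠ 0 := (e z).ne_zero
  refine ⟨b * c0, c0 / (e z : F) * (b * c0), w, mul_ne_zero hb0 hc0,
    mul_ne_zero (div_ne_zero hc0 hez) (mul_ne_zero hb0 hc0), hw3, hw1, fun l => ⟨?_, ?_⟩⟩
  · rw [hb, hcl]; ring
  · have q2 := hgy z l
    rw [hπz, hb, hcl] at q2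
    refine mul_left_cancel₀ hez (q2.symm.trans ?_)
    field_simp
    ring

/-- With one class `q ≤ 6`. -/
theorem one_class {m : ℕ} (hm : Fintype.card F = 3 * m + 1) (h2 : 2 ≤ m)
    (hzero : ∀ g ∈ M, ∀ s k, app g (ee s) k = 0 → IsMono g) (h1 : OneClass M)
    {g : GL (Fin 3) F} (hg : g ∈ M) (hgm : ¬ IsMono g) : False := by
  classical
  have h3 := three_ne_zero_of_three hm
  obtain ⟨C1, C2, w, hC1, hC2, hw3, hw1, hgl⟩ :=
    S.shape hzero h1 h3 hg hgm (x := 0) (z := 1) (r := 2) (by decide) (by decide) (by decide)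
  set v := app g (ee 0)
  have hv : ∀ s, v s ≠ 0 := fun s h => hgm (hzero g hg 0 s h)
  have hquad : 1 + w + w ^ 2 = 0 := by
    refine (mul_eq_zero.1 (?_ : (w - 1) * (1 + w + w ^ 2) = 0)).resolve_left (sub_ne_zero.2 hw1)
    linear_combination hw3
  let C : Fin 3 → F := ![1, C1, C2]
  have hC : ∀ l, C l ≠ 0 := fun l => by fin_cases l <;> simp [C, hC1, hC2]
  have hgent : ∀ l t : Fin 3, app g (ee l) t = C l * (w ^ ((l : ℕ) * (t : ℕ)) * v t) := by
    intro l t
    fin_cases l
    · simp [C, v]
    · simpa [C] using (hgl t).1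
    · simpa [C, mul_comm 2] using (hgl t).2
  -- the transform
  let a : (Fin 3 → F) → Fin 3 → F := fun E s => ∑ l : Fin 3, E l * w ^ ((s : ℕ) * (l : ℕ))
  have hainj : Function.Injective a := by
    intro E E' h
    have h0 := congrFun h 0
    have h1 := congrFun h 1
    have h2 := congrFun h 2
    simp [a, Fin.sum_univ_three] at h0 h1 h2
    have e0 : 3 * E 0 = 3 * E' 0 := by grind
    have e1 : 3 * E 1 = 3 * E' 1 := by grind
    have e2 : 3 * E 2 = 3 * E' 2 := by grind
    funext l
    fin_cases l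
    · exact mul_left_cancel₀ h3 e0
    · exact mul_left_cancel₀ h3 e1
    · exact mul_left_cancel₀ h3 e2
  let T : Fˣ × (Fin 3 ⊕ Fin 3 × Bool) → Fin 3 → F := fun p =>
    match p.2 with
    | Sum.inl s => (p.1 : F) • ee s
    | Sum.inr (i, β) => fun t => (p.1 : F) * ((w ^ (i : ℕ)) ^ (t : ℕ) *
        if t = 2 then (if β then w else w ^ 2) else 1)
  let Ev : (prodPow F m).ker → Fin 3 → F := fun c l => C l * ((c.1 l : F) * v l)
  -- every transform is in the image of `T`
  have hmem : ∀ c, a (Ev c) ∈ Set.range T := by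
    intro c
    obtain ⟨β, d, hd, hcd⟩ := exists_split hm (show prodPow F m c.1 = 1 from c.2)
    have hdM : dg d ∈ M := S.mono _ (isMono_dg d) (by
      rw [mem_sl_iff, det_dg, Fin.prod_univ_three, ← Units.val_mul, ← Units.val_mul, hd,
        Units.val_one])
    set h := g * dg d * g
    have hh : h ∈ M := mul_mem (mul_mem hg hdM) hg
    have hβ : (β : F) ≠ 0 := β.ne_zero
    set A := a (Ev c)
    have key : ∀ s t : Fin 3, app h (ee s) t * (β : F) =
        C s * (v t * A (s + t)) := by
      intro s t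
      have hexp : app h (ee s) = ∑ l, ((d l : F) * app g (ee s) l) • app g (ee l) := by
        simp only [h, map_mul, LinearEquiv.mul_apply]
        conv_lhs => rw [pi_eq_sum_univ' (app (dg d) (app g (ee s))), map_sum]
        exact Finset.sum_congr rfl fun l _ => by rw [map_smul, app_dg]
      rw [hexp]
      simp only [Finset.sum_apply, Pi.smul_apply, smul_eq_mul, hgent, A, a, Ev, hcd, Units.val_mul,
        Finset.mul_sum, Finset.sum_mul]
      refine Finset.sum_congr rfl fun l _ => ?_
      have hpow : w ^ (((s + t : Fin 3) : ℕ) * (l : ℕ)) = w ^ ((s : ℕ) * l) * w ^ ((l : ℕ) * t) := by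
        rw [← pow_add, pow_eq_pow_mod _ hw3, pow_eq_pow_mod ((s : ℕ) * l + (l : ℕ) * t) hw3,
          Fin.val_add, Nat.mod_mul_mod, add_mul, mul_comm (t : ℕ) (l : ℕ)]
      rw [hpow]
      ring
    by_cases hmh : IsMono h
    · obtain ⟨π, e, he⟩ := exists_of_isMono hmh
      have hA : ∀ t, t ≠ π 0 → A t = 0 := fun t ht => by
        have h1 := key 0 t
        rw [he, app_pg_dg_ee, Pi.smul_apply, ee, Pi.single_eq_of_ne ht, smul_zero, zero_mul,
          zero_add] at h1
        exact ((mul_eq_zero.1 ((mul_eq_zero.1 h1.symm).resolve_left (hC 0)))).resolve_left (hv t)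
      have hA0 : A (π 0) ≠ 0 := fun h0 => by
        have h1 := key 0 (π 0)
        rw [he, app_pg_dg_ee, Pi.smul_apply, ee, Pi.single_eq_same, zero_add, h0, mul_zero,
          mul_zero, smul_eq_mul, mul_one] at h1
        exact mul_ne_zero (e 0).ne_zero hβ h1
      refine ⟨(Units.mk0 _ hA0, Sum.inl (π 0)), funext fun t => ?_⟩
      show (A (π 0) • (ee (π 0) : V3 F)) t = A t
      by_cases ht : t = π 0
      · subst ht; simp [ee]
      · simp [ee, ht, hA t ht]
    · obtain ⟨b, b₂, w', hb, hb₂, hw'3, hw'1, hhl⟩ :=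
        S.shape hzero h1 h3 hh hmh (x := 0) (z := 1) (r := 2) (by decide) (by decide) (by decide)
      have hA : ∀ t : Fin 3, C 1 * A (1 + t) = b * w' ^ (t : ℕ) * (C 0 * A t) := by
        intro t
        refine mul_left_cancel₀ (hv t) ?_
        have k0 := key 0 t
        have k1 := key 1 t
        rw [zero_add] at k0
        rw [(hhl t).1] at k1
        linear_combination -k1 + b * w' ^ (t : ℕ) * k0
      have hAne : A 0 ≠ 0 := fun h0 => by
        have k0 := key 0 0
        rw [zero_add, h0, mul_zero, mul_zero] at k0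
        exact mul_ne_zero (fun e => hmh (hzero h hh 0 0 e)) hβ k0
      have e0 := hA 0
      have e1 := hA 1
      have e2 := hA 2
      have cz : C 0 = 1 := rfl
      have co : C 1 = C1 := rfl
      rw [cz, co, one_mul] at e0 e1 e2
      set ζ := b / C1 with hζ
      have f0 : A 1 = ζ * A 0 := by
        rw [hζ]; field_simp; simpa [mul_comm] using e0
      have f1 : A 2 = ζ * w' * A 1 := by
        rw [hζ]; field_simp; simp at e1; linear_combination e1
      have f2 : A 0 = ζ * w' ^ 2 * A 2 := by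
        rw [hζ]; field_simp; simp at e2; linear_combination e2
      have hζ3 : ζ ^ 3 = 1 := mul_right_cancel₀ hAne
        (by rw [one_mul]; linear_combination -(ζ * w' ^ 2) * f1 - ζ ^ 2 * w' ^ 3 * f0 -
          ζ ^ 3 * A 0 * hw'3 - f2)
      have hroot : ∀ z : F, z ^ 3 = 1 → z ≠ 1 → z = w ∨ z = w ^ 2 := fun z hz hz1 => by
        have h1 : (z - 1) * ((z - w) * (z - w ^ 2)) = 0 := by
          linear_combination hz - hw3 + (z * w - z ^ 2) * hquad
        rcases mul_eq_zero.1 ((mul_eq_zero.1 h1).resolve_left (sub_ne_zero.2 hz1)) with h | h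
        · exact Or.inl (sub_eq_zero.1 h)
        · exact Or.inr (sub_eq_zero.1 h)
      obtain ⟨i, hi⟩ : ∃ i : Fin 3, ζ = w ^ (i : ℕ) := by
        by_cases h1 : ζ = 1
        · exact ⟨0, by simp [h1]⟩
        rcases hroot ζ hζ3 h1 with h | h
        · exact ⟨1, by simp [h]⟩
        · exact ⟨2, by simpa using h⟩
      obtain ⟨β', hβ'⟩ : ∃ β' : Bool, w' = if β' then w else w ^ 2 := by
        rcases hroot w' hw'3 hw'1 with h | h
        · exact ⟨true, by simp [h]⟩
        · exact ⟨false, by simp [h]⟩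
      refine ⟨(Units.mk0 _ hAne, Sum.inr (i, β')), funext fun t => ?_⟩
      show A 0 * ((w ^ (i : ℕ)) ^ (t : ℕ) * if t = 2 then (if β' then w else w ^ 2) else 1) = A t
      rw [← hi, ← hβ']
      fin_cases t
      · simp
      · simp [f0]; ring
      · simp [f1, f0]; ring
  have hEinj : Function.Injective Ev := fun c c' h => Subtype.ext (funext fun l => Units.ext
    (mul_right_cancel₀ (hv l) (mul_left_cancel₀ (hC l) (congrFun h l))))
  have hle := Nat.card_le_card_of_injective
    (fun c => (⟨a (Ev c), hmem c⟩ : Set.range T))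
    fun c c' h => hEinj (hainj (congrArg Subtype.val h))
  have hT : Nat.card (Set.range T) ≤ 3 * m * 9 := by
    refine (Finite.card_range_le T).trans ?_
    rw [Nat.card_prod, Nat.card_sum, Nat.card_prod, Nat.card_fin, card_units_three hm,
      Nat.card_eq_fintype_card (α := Bool), Fintype.card_bool]
  have hker := card_cubeKer hm
  have : (3 * m) ^ 3 ≤ 3 * (3 * m * 9) := hker ▸ Nat.mul_le_mul_left 3 (hle.trans hT)
  have h4 : 2 * 2 * m ≤ m * m * m := Nat.mul_le_mul (Nat.mul_le_mul h2 h2) le_rfl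
  have h5 : (3 * m) ^ 3 = 27 * (m * m * m) := by ring
  omega

end MSetup

end Cfsg.Agent.SL3Max
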