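/-
The orbit of a coordinate point under an overgroup of the monomial group: counting.
Main results:
* `MSetup.ncard_general`
* `MSetup.all_mono_general`
-/
import Cfsg.Agent.Lib.SL3Max.MonoFourier
import Cfsg.Agent.Lib.SL3Max.MonoArith
import Cfsg.Agent.Lib.GLOrder.Basic

set_option autoImplicit false
set_option linter.unusedSectionVars false

namespace Cfsg.Agent.SL3Max

open Cfsg.Agent.Transvect Module Matrix

variable {F : Type*} [Field F] [Fintype F] {M : Subgroup (GL (Fin 3) F)}

/-- The full vectors of the orbit, as triples of units. -/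
def OmFull (M : Subgroup (GL (Fin 3) F)) : Set (Fin 3 → Fˣ) :=
  {c | (fun s => (c s : F)) ∈ Om M}

lemma ncard_full_image (A : Set (Fin 3 → Fˣ)) :
    ((fun (c : Fin 3 → Fˣ) s => (c s : F)) '' A).ncard = A.ncard :=
  Set.ncard_image_of_injective _ fun c c' h => funext fun s => Units.ext (congrFun h s)

lemma card_specialLinear :
    Nat.card (Cfsg.Geo.specialLinear (Fin 3) F) =
      Fintype.card F ^ 3 * ((Fintype.card F ^ 2 - 1) * (Fintype.card F ^ 3 - 1)) := by
  have h1 : Cfsg.Geo.specialLinear (Fin 3) F =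
      (Matrix.SpecialLinearGroup.toGL (n := Fin 3) (R := F)).range := by
    rw [GLOrder.range_toGL]; rfl
  rw [h1, ← Nat.card_congr (MonoidHom.ofInjective
    (Matrix.SpecialLinearGroup.toGL_injective (n := Fin 3) (R := F))).toEquiv, GLOrder.card_SL,
    Nat.card_eq_fintype_card, show Finset.Ico 1 3 = {1, 2} by decide,
    Finset.prod_insert (by decide), Finset.prod_singleton]

namespace MSetup

variable (S : MSetup M)
include S

lemma dvd_card_sl : Nat.card M ∣
    Fintype.card F ^ 3 * ((Fintype.card F ^ 2 - 1) * (Fintype.card F ^ 3 - 1)) :=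
  card_specialLinear (F := F) ▸ Subgroup.card_dvd_of_le S.sl

lemma full_classes {m : ℕ} (hm : Fintype.card F = 3 * m + 1) :
    ∀ c ∈ OmFull M, ∀ e, prodPow F m e = 1 → e * c ∈ OmFull M := by
  intro c hc e he
  obtain ⟨b, d, hd, hed⟩ := exists_split hm he
  have h := S.smul_mem_Om (S.diag_mul_mem_Om hc d hd) b.ne_zero
  show (fun s => ((e * c) s : F)) ∈ Om M
  convert h using 1
  funext s
  simp only [Pi.mul_apply, Units.val_mul, Pi.smul_apply, smul_eq_mul, hed]
  ring

lemma Om_eq (hzero : ∀ g ∈ M, ∀ s k, app g (ee s) k = 0 → IsMono g) :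
    Om M = coords F ∪ (fun (c : Fin 3 → Fˣ) s => (c s : F)) '' OmFull M := by
  refine Set.Subset.antisymm ?_ ?_
  · rintro v ⟨g, hg, rfl⟩
    by_cases hz : ∀ k, app g (ee 0) k ≠ 0
    · exact Or.inr ⟨fun k => Units.mk0 _ (hz k), ⟨g, hg, rfl⟩, rfl⟩
    · push Not at hz
      obtain ⟨k, hk⟩ := hz
      obtain ⟨π, c, rfl⟩ := exists_of_isMono (hzero g hg 0 k hk)
      exact Or.inl ⟨(π 0, c 0), by rw [app_pg_dg_ee]⟩
  · rintro v (h | ⟨c, hc, rfl⟩)
    · exact S.coords_subset_Om h
    · exact hc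

lemma ncard_general (hzero : ∀ g ∈ M, ∀ s k, app g (ee s) k = 0 → IsMono g) :
    (Om M).ncard = 3 * (Fintype.card F - 1) + (OmFull M).ncard := by
  rw [S.Om_eq hzero, Set.ncard_union_eq ?_ (Set.toFinite _) (Set.toFinite _), ncard_coords,
    ncard_full_image]
  rw [Set.disjoint_left]
  rintro _ ⟨⟨a, u⟩, rfl⟩ ⟨c, -, hc⟩
  obtain ⟨b, hba, -⟩ := exists_third a a
  have := congrFun hc b
  simp [ee, hba] at this

lemma mono_of_full_empty (hzero : ∀ g ∈ M, ∀ s k, app g (ee s) k = 0 → IsMono g)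
    (h : OmFull M = ∅) {g : GL (Fin 3) F} (hg : g ∈ M) : IsMono g := by
  by_contra hgm
  have hfull : ∀ k, app g (ee 0) k ≠ 0 := fun k hk => hgm (hzero g hg 0 k hk)
  have hmem : (fun k => Units.mk0 _ (hfull k)) ∈ OmFull M := ⟨g, hg, rfl⟩
  rw [h] at hmem
  exact hmem

/-- All elements are monomial when no column has exactly one zero. -/
theorem all_mono_general (hzero : ∀ g ∈ M, ∀ s k, app g (ee s) k = 0 → IsMono g) :
    ∀ g ∈ M, IsMono g := by
  classical
  intro g hg
  have hH : Nat.card (monoPart M) ∣ Nat.card M := Subgroup.card_dvd_of_le fun x hx => hx.1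
  rw [S.card_monoPart, S.card_mul, S.ncard_general hzero] at hH
  have h5 := S.five
  by_cases h3 : 3 ∣ Fintype.card F - 1
  swap
  · -- every element is a cube: one class
    rcases (OmFull M).eq_empty_or_nonempty with he | ⟨c0, hc0⟩
    · exact S.mono_of_full_empty hzero he hg
    exfalso
    have huniv : OmFull M = Set.univ := by
      refine Set.eq_univ_of_forall fun c => ?_
      have hcop : Nat.Coprime (Nat.card Fˣ) 3 := by
        rw [Nat.card_units, Nat.card_eq_fintype_card]
        exact ((Nat.prime_three.coprime_iff_not_dvd).2 h3).symm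
      set e := c / c0
      obtain ⟨b, hb⟩ : ∃ b : Fˣ, b ^ 3 = e 0 * e 1 * e 2 :=
        ⟨(powCoprime hcop).symm (e 0 * e 1 * e 2), (powCoprime hcop).apply_symm_apply _⟩
      have h := S.smul_mem_Om (S.diag_mul_mem_Om hc0 (fun s => b⁻¹ * e s) (by
        calc b⁻¹ * e 0 * (b⁻¹ * e 1) * (b⁻¹ * e 2) = (b ^ 3)⁻¹ * (e 0 * e 1 * e 2) := by
              rw [← inv_pow, pow_succ, pow_two]; ac_rfl
          _ = 1 := by rw [hb, inv_mul_cancel])) b.ne_zero
      show (fun s => (c s : F)) ∈ Om M
      convert h using 1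
      funext s
      rw [Pi.smul_apply, smul_eq_mul, ← Units.val_mul, ← Units.val_mul]
      congr 1
      rw [← mul_assoc, mul_inv_cancel_left]
      exact (div_mul_cancel (c s) (c0 s)).symm
    rw [huniv, Set.ncard_univ, Nat.card_pi, Finset.prod_const, Finset.card_univ, Fintype.card_fin,
      Nat.card_units, Nat.card_eq_fintype_card] at hH
    have h6 := Nat.dvd_of_mul_dvd_mul_right (by omega) hH
    have h7 := (Nat.dvd_mul_right 3 _).trans h6
    rw [Nat.dvd_add_right (Nat.dvd_mul_right 3 _)] at h7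
    exact h3 (Nat.prime_three.dvd_of_dvd_pow h7)
  obtain ⟨m, hm'⟩ := h3
  have hm : Fintype.card F = 3 * m + 1 := by omega
  have hm2 : 2 ≤ m := by omega
  obtain ⟨K, hK3, hKcard, hKmem⟩ := card_invariant_classes hm (OmFull M) (S.full_classes hm)
  rw [Nat.card_coe_set_eq] at hKcard
  have hM := S.dvd_card_sl
  rw [S.card_mul, S.ncard_general hzero] at hM
  rw [hm] at hM
  interval_cases hk : K.ncard
  · refine S.mono_of_full_empty hzero ?_ hg
    exact (Set.ncard_eq_zero (Set.toFinite _)).1 (by omega)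
  · by_contra hgm
    refine S.one_class hm hm2 hzero ?_ hg hgm
    intro v hv w hw hv0 hw0
    obtain ⟨a, rfl⟩ := Set.ncard_eq_one.1 hk
    set cv : Fin 3 → Fˣ := fun s => Units.mk0 (v s) (hv0 s)
    set cw : Fin 3 → Fˣ := fun s => Units.mk0 (w s) (hw0 s)
    have e1 : prodPow F m cv = a := (hKmem _).2 ⟨cv, hv, rfl⟩
    have e2 : prodPow F m cw = a := (hKmem _).2 ⟨cw, hw, rfl⟩
    obtain ⟨b, d, hd, hbd⟩ := exists_split hm (c := cw / cv) (by rw [map_div, e1, e2, div_self'])
    refine ⟨b, d, hd, fun s => ?_⟩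
    rw [← mul_assoc, ← Units.val_mul, ← hbd s, Pi.div_apply]
    show w s = _
    have h := congrArg Units.val (div_mul_cancel (cw s) (cv s))
    simp only [Units.val_mul, cw, cv, Units.val_mk0] at h ⊢
    exact h.symm
  all_goals
    exfalso
    obtain ⟨p, hchar⟩ := CharP.exists F
    obtain ⟨n, hp, hq⟩ := FiniteField.card F p
    rw [hm] at hq
    refine index_impossible hp hq.symm hm2 (k := K.ncard) (by omega) ?_
    set q := 3 * m + 1 with hqdef
    have hk2 : (OmFull M).ncard = K.ncard * (9 * (m * m * m)) := by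
      rw [hk]
      have : (3 * m) ^ 3 = 27 * (m * m * m) := by ring
      omega
    have e1 : q ^ 2 - 1 = 3 * m * (3 * m + 2) := by
      have : q ^ 2 = 3 * m * (3 * m + 2) + 1 := by rw [hqdef]; ring
      omega
    have e2 : q ^ 3 - 1 = 3 * m * (q * q + q + 1) := by
      have : q ^ 3 = 3 * m * (q * q + q + 1) + 1 := by rw [hqdef]; ring
      omega
    have e3 : q - 1 = 3 * m := by omega
    rw [hk2, e1, e2, e3] at hM
    have hM' : 9 * (m * m) * (6 * (1 + K.ncard * (m * m))) ∣
        9 * (m * m) * (q ^ 3 * (3 * m + 2) * (q * q + q + 1)) := by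
      convert hM using 1 <;> ring
    exact Nat.dvd_of_mul_dvd_mul_left (by positivity) hM'

end MSetup

end Cfsg.Agent.SL3Max
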