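/-
Overgroups of the monomial group of `SL₃(7)` with a column with one zero.
Main results:
* `MSetup.all_mono_seven`
-/
import Cfsg.Agent.Lib.SL3Max.MonoClasses
import Cfsg.Agent.Lib.SL3Max.Homology

set_option autoImplicit false
set_option linter.unusedSectionVars false

namespace Cfsg.Agent.SL3Max

open Cfsg.Agent.Transvect Module Matrix

variable {F : Type*} [Field F] [Fintype F] {M : Subgroup (GL (Fin 3) F)}

/-- The vectors with exactly one zero. -/
def twos (F : Type*) [Field F] : Set (V3 F) :=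
  Set.range fun p : Fin 3 × Fˣ × Fˣ =>
    (p.2.1 : F) • ee (p.1 + 1) + (p.2.2 : F) • ee (p.1 + 2)

lemma ncard_twos : (twos F).ncard = 3 * ((Fintype.card F - 1) * (Fintype.card F - 1)) := by
  rw [twos, Set.ncard_range_of_injective, Nat.card_prod, Nat.card_prod, Nat.card_fin,
    Nat.card_units, Nat.card_eq_fintype_card]
  rintro ⟨i, a, b⟩ ⟨j, a', b'⟩ h
  simp only at h
  obtain rfl : i = j := by
    by_contra hne
    have h0 := congrFun h i
    fin_cases i <;> fin_cases j <;> simp [ee] at hne h0 <;>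
      first | exact a'.ne_zero h0.symm | exact b'.ne_zero h0.symm
  have h1 := congrFun h (i + 1)
  have h2 := congrFun h (i + 2)
  simp [ee] at h1 h2
  rw [Units.ext h1, Units.ext h2]

namespace MSetup

variable (S : MSetup M)
include S

/-- An element with a column having exactly one zero carries all such vectors into the orbit. -/
lemma twos_subset_Om {g : GL (Fin 3) F} (hg : g ∈ M) {s i j k : Fin 3} (hij : i ≠ j) (hik : i ≠ k)
    (hjk : j ≠ k) (hk : app g (ee s) k = 0) (hi : app g (ee s) i ≠ 0) (hj : app g (ee s) j ≠ 0) :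
    twos F ⊆ Om M := by
  rintro _ ⟨⟨a, u, v⟩, rfl⟩
  obtain ⟨h, hh, -, e1, e2, -⟩ := S.mono_map hij hik hjk (a := a + 1) (b := a + 2) (c := a)
    (by fin_cases a <;> decide) (by fin_cases a <;> decide) (by fin_cases a <;> decide)
    (div_ne_zero u.ne_zero hi) (div_ne_zero v.ne_zero hj)
  obtain ⟨g', hg', hg'0⟩ := S.col_mem_Om hg s
  refine ⟨h * g', mul_mem hh hg', ?_⟩
  rw [map_mul, LinearEquiv.mul_apply, hg'0, expand3 hij hik hjk (app g (ee s)), hk, zero_smul,
    add_zero, map_add, map_smul, map_smul, e1, e2, smul_smul, smul_smul, mul_div_cancel₀ _ hi,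
    mul_div_cancel₀ _ hj]

/-- No such element for seven elements. -/
theorem all_mono_seven (h7 : Fintype.card F = 7) {g : GL (Fin 3) F} (hg : g ∈ M) {s i j k : Fin 3}
    (hij : i ≠ j) (hik : i ≠ k) (hjk : j ≠ k) (hk : app g (ee s) k = 0)
    (hi : app g (ee s) i ≠ 0) (hj : app g (ee s) j ≠ 0) : False := by
  classical
  have htwo := S.twos_subset_Om hg hij hik hjk hk hi hj
  set Fl := (fun (c : Fin 3 → Fˣ) t => (c t : F)) '' OmFull M
  have hOm : Om M = coords F ∪ twos F ∪ Fl := by
    refine Set.Subset.antisymm ?_ ?_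
    · rintro v ⟨h, hh, rfl⟩
      by_cases hz : ∀ t, app h (ee 0) t ≠ 0
      · exact Or.inr ⟨fun t => Units.mk0 _ (hz t), ⟨h, hh, rfl⟩, rfl⟩
      push Not at hz
      obtain ⟨t, ht⟩ := hz
      refine Or.inl ?_
      by_cases hm : IsMono h
      · obtain ⟨π, c, rfl⟩ := exists_of_isMono hm
        exact Or.inl ⟨(π 0, c 0), by rw [app_pg_dg_ee]⟩
      · have hne : ∀ x, x ≠ t → app h (ee 0) x ≠ 0 := by
          intro x hx h0
          obtain ⟨r, hrx, hrt⟩ := exists_third x t
          refine hm (S.mono_of_single hh (s := 0) (r := r) fun y hy => ?_)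
          rcases eq_of_three hrx hrt hx y with e | e | e
          · exact absurd e hy
          · rw [e]; exact h0
          · rw [e]; exact ht
        refine Or.inr ⟨(t, Units.mk0 _ (hne (t + 1) (by fin_cases t <;> decide)),
          Units.mk0 _ (hne (t + 2) (by fin_cases t <;> decide))), ?_⟩
        show app h (ee 0) (t + 1) • (ee (t + 1) : V3 F) + app h (ee 0) (t + 2) • ee (t + 2) = _
        conv_rhs => rw [expand3 (i := t + 1) (j := t + 2) (k := t) (by fin_cases t <;> decide)
          (by fin_cases t <;> decide) (by fin_cases t <;> decide) (app h (ee 0)), ht, zero_smul,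
          add_zero]
    · rintro v ((h | h) | ⟨c, hc, rfl⟩)
      · exact S.coords_subset_Om h
      · exact htwo h
      · exact hc
  have hdisj1 : Disjoint (coords F) (twos F) := by
    rw [Set.disjoint_left]
    rintro _ ⟨⟨a, u⟩, rfl⟩ ⟨⟨b, v, w⟩, hb⟩
    have h1 := congrFun hb (b + 1)
    have h2 := congrFun hb (b + 2)
    fin_cases a <;> fin_cases b <;> simp [ee] at h1 h2
  have hdisj2 : Disjoint (coords F ∪ twos F) Fl := by
    rw [Set.disjoint_left]
    rintro _ (⟨⟨a, u⟩, rfl⟩ | ⟨⟨b, v, w⟩, rfl⟩) ⟨c, -, hc⟩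
    · obtain ⟨b, hba, -⟩ := exists_third a a
      have := congrFun hc b
      simp [ee, hba] at this
    · have := congrFun hc b
      fin_cases b <;> simp [ee] at this
  have hcard : (Om M).ncard = 18 + 108 + (OmFull M).ncard := by
    rw [hOm, Set.ncard_union_eq hdisj2 (Set.toFinite _) (Set.toFinite _),
      Set.ncard_union_eq hdisj1 (Set.toFinite _) (Set.toFinite _), ncard_coords, ncard_twos,
      ncard_full_image, h7]
  have hm : Fintype.card F = 3 * 2 + 1 := by omega
  obtain ⟨K, hK3, hKcard, -⟩ := card_invariant_classes hm (OmFull M) (S.full_classes hm)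
  rw [Nat.card_coe_set_eq] at hKcard
  have hM := S.dvd_card_sl
  rw [S.card_mul, hcard, h7] at hM
  have hgm : ¬ IsMono g := fun h => by
    obtain ⟨r, hr⟩ := h s
    rcases eq_or_ne i r with rfl | hir
    · exact hj (hr j hij.symm)
    · exact hi (hr i hir)
  have hkn : (OmFull M).ncard = K.ncard * 72 := by omega
  rw [hkn] at hM
  interval_cases hkk : K.ncard
  · -- no full vector, but two columns combine to one
    have hnofull : ∀ v ∈ Om M, ∃ t, v t = 0 := by
      intro v hv
      by_contra! hne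
      have hmem : (fun t => Units.mk0 (v t) (hne t)) ∈ OmFull M := hv
      rw [(Set.ncard_eq_zero (s := OmFull M) (Set.toFinite _)).1 (by omega)] at hmem
      exact hmem
    choose z hz using fun x => hnofull _ (S.col_mem_Om hg x)
    have hz' : ∀ x t, t ≠ z x → app g (ee x) t ≠ 0 := by
      intro x t ht h0
      obtain ⟨r, hrt, hrz⟩ := exists_third t (z x)
      refine hgm (S.mono_of_single hg (s := x) (r := r) fun y hy => ?_)
      rcases eq_of_three hrt hrz ht y with e | e | e
      · exact absurd e hy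
      · rw [e]; exact h0
      · rw [e]; exact hz x
    obtain ⟨x, x', hxx⟩ : ∃ x x', z x ≠ z x' := by
      by_contra! hall
      have h1 := app_app_inv g (ee (z 0))
      conv_lhs at h1 => rw [expand3 (i := 0) (j := 1) (k := 2) (by decide) (by decide) (by decide)
        (app g⁻¹ (ee (z 0))), map_add, map_add, map_smul, map_smul, map_smul]
      have h2 := congrFun h1 (z 0)
      simp only [Pi.add_apply, Pi.smul_apply, hz 0, (hall 0 1) ▸ hz 1, (hall 0 2) ▸ hz 2,
        smul_zero, add_zero] at h2
      simp [ee] at h2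
    have hne : x ≠ x' := fun h => hxx (by rw [h])
    obtain ⟨r, hr1, hr2⟩ := exists_third (z x) (z x')
    obtain ⟨c, hc1, hc2⟩ := exists_third x x'
    obtain ⟨v, hv0, hv⟩ : ∃ v : F, v ≠ 0 ∧ app g (ee x) r + v * app g (ee x') r ≠ 0 := by
      obtain ⟨v, hv⟩ : ∃ v : F, v ∉ ({0, -app g (ee x) r / app g (ee x') r} : Finset F) :=
        exists_notMem_of_card_lt (lt_of_le_of_lt Finset.card_le_two (by omega))
      simp only [Finset.mem_insert, Finset.mem_singleton, not_or] at hv
      refine ⟨v, hv.1, fun h0 => hv.2 ?_⟩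
      rw [eq_div_iff (hz' x' r hr2)]
      linear_combination h0
    obtain ⟨μ, hμ, -, e1, e2, -⟩ := S.mono_map hij hik hjk (a := x) (b := x') (c := c) hne
      hc1.symm hc2.symm (inv_ne_zero hi) (div_ne_zero hv0 hj)
    have hmem : app (g * μ * g) (ee s) ∈ Om M :=
      S.col_mem_Om (mul_mem (mul_mem hg hμ) hg) s
    have heq : app (g * μ * g) (ee s) = app g (ee x) + v • app g (ee x') := by
      rw [map_mul, map_mul, LinearEquiv.mul_apply, LinearEquiv.mul_apply,
        expand3 hij hik hjk (app g (ee s)), hk, zero_smul, add_zero, map_add, map_smul, map_smul,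
        e1, e2, smul_smul, smul_smul, mul_inv_cancel₀ hi, mul_div_cancel₀ _ hj, one_smul, map_add,
        map_smul]
    obtain ⟨t, ht⟩ := hnofull _ (heq ▸ hmem)
    rw [Pi.add_apply, Pi.smul_apply, smul_eq_mul] at ht
    rcases eq_of_three hxx hr1.symm hr2.symm t with rfl | rfl | rfl
    · rw [hz, zero_add] at ht
      exact mul_ne_zero hv0 (hz' x' _ hxx) ht
    · rw [hz, mul_zero, add_zero] at ht
      exact hz' x _ hxx.symm ht
    · exact hv ht
  · norm_num at hM
  · norm_num at hM
  · -- transitive: the polarity is not symmetric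
    have h2 : (2 : F) ≠ 0 := fun h => by
      have h0 := FiniteField.cast_card_eq_zero F
      rw [h7, Nat.cast_ofNat] at h0
      exact one_ne_zero (by linear_combination h0 - 3 * h : (1 : F) = 0)
    have h3 : (3 : F) ≠ 0 := three_ne_zero_of_three hm
    have hall : ∀ v : V3 F, v ≠ 0 → v ∈ Om M := by
      intro v hv
      have hfull : OmFull M = Set.univ := by
        refine Set.eq_of_subset_of_ncard_le (Set.subset_univ _) ?_
        rw [Set.ncard_univ, Nat.card_pi, Finset.prod_const, Finset.card_univ, Fintype.card_fin,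
          Nat.card_units, Nat.card_eq_fintype_card, h7]
        omega
      rw [hOm]
      by_cases hz : ∀ t, v t ≠ 0
      · exact Or.inr ⟨fun t => Units.mk0 _ (hz t), hfull ▸ Set.mem_univ _, rfl⟩
      push Not at hz
      obtain ⟨t, ht⟩ := hz
      have t1 : t + 1 ≠ t + 2 := by fin_cases t <;> decide
      have t2 : t + 1 ≠ t := by fin_cases t <;> decide
      have t3 : t + 2 ≠ t := by fin_cases t <;> decide
      have hexp := expand3 t1 t2 t3 v
      rw [ht, zero_smul, add_zero] at hexp
      by_cases ha : v (t + 1) = 0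
      · have hb : v (t + 2) ≠ 0 := fun hb => hv (by rw [hexp, ha, hb, zero_smul, zero_smul, add_zero])
        rw [ha, zero_smul, zero_add] at hexp
        exact Or.inl (Or.inl ⟨(t + 2, Units.mk0 _ hb), hexp.symm⟩)
      by_cases hb : v (t + 2) = 0
      · rw [hb, zero_smul, add_zero] at hexp
        exact Or.inl (Or.inl ⟨(t + 1, Units.mk0 _ ha), hexp.symm⟩)
      · exact Or.inl (Or.inr ⟨(t, Units.mk0 _ ha, Units.mk0 _ hb), hexp.symm⟩)
    have hchar : CharP F 7 := by
      obtain ⟨p, hp⟩ := CharP.exists F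
      obtain ⟨n, hpp, hq⟩ := FiniteField.card F p
      rw [h7] at hq
      have := (Nat.prime_dvd_prime_iff_eq hpp (by norm_num)).1 (hq ▸ dvd_pow_self p n.ne_zero)
      exact this ▸ hp
    have hno : ∀ c, ¬ Cen M c := by
      rintro c ⟨hc0, φ, hφ0, hφc, hφ⟩
      have hne : tv c φ ≠ 1 := fun h => by
        obtain ⟨y, hy⟩ : ∃ y, φ y ≠ 0 := by
          by_contra! hy; exact hφ0 (LinearMap.ext hy)
        have h1 := tv_apply hφc y
        rw [h, map_one, LinearEquiv.coe_one, id] at h1
        exact smul_ne_zero hy hc0 (by simpa using h1.symm)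
      have h7' : tv c φ ^ 7 = 1 := by
        rw [C5.tv_pow hφc, CharP.cast_eq_zero, zero_smul, tv_zero]
      have hord : orderOf (tv c φ) = 7 :=
        orderOf_eq_prime_iff (hp := ⟨by norm_num⟩) |>.2 ⟨h7', hne⟩
      have hdvd : 7 ∣ Nat.card M := by
        have := orderOf_dvd_natCard (⟨tv c φ, hφ⟩ : M)
        rwa [Subgroup.orderOf_mk, hord] at this
      rw [S.card_mul, hcard, hkn, h7] at hdvd
      norm_num at hdvd
    -- homologies
    let p : Fin 3 → D3 F := fun t => LinearMap.proj t
    have h0φ : ((2 : F) • p 0) (ee 0) = 2 := by simp [p, ee]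
    have hP : ∀ c : V3 F, c ≠ 0 → ∃ φ : D3 F, φ c = 2 ∧ hml c φ ∈ M := by
      intro c hc
      obtain ⟨h, hh, rfl⟩ := hall c hc
      refine ⟨_, (C5.comp_inv_app ((2 : F) • p 0) h (ee 0)).trans h0φ, ?_⟩
      rw [← hml_conj h0φ h]
      refine mul_mem (mul_mem hh (S.mono _ (fun t => ⟨t, fun y hy => ?_⟩) (hml_mem_sl _ _)))
        (inv_mem hh)
      rw [hml_apply h0φ]
      fin_cases t <;> fin_cases y <;> simp [ee, p] at hy ⊢
    choose φ hφ hφM using hP
    have hsym : ∀ (c d : V3 F) (hc : c ≠ 0) (hd : d ≠ 0), φ c hc d = 0 → φ d hd c = 0 :=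
      fun c d hc hd => hml_symm hno h2 hd (hφ c hc) (hφ d hd) (hφM c hc) (hφM d hd)
    have hee : ∀ (t : Fin 3) (v : V3 F) (hv : v ≠ 0), φ v hv (ee t) = 0 → v t = 0 := by
      intro t v hv h
      have hu := hml_unique hno (ee_ne_zero t) (hφ _ (ee_ne_zero t))
        (ψ := (2 : F) • p t) (by simp [p, ee]) (hφM _ (ee_ne_zero t))
        (S.mono _ (fun a => ⟨a, fun y hy => by
          rw [hml_apply (by simp [p, ee])]
          fin_cases t <;> fin_cases a <;> fin_cases y <;> simp [ee, p] at hy ⊢⟩) (hml_mem_sl _ _))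
      have h1 := hsym v (ee t) hv (ee_ne_zero t) h
      rw [hu] at h1
      simpa [p, h2] using h1
    -- the axis of a full point
    have hfull : ∀ (v : V3 F) (hv : v ≠ 0), (∀ t, v t ≠ 0) →
        ∀ a b : Fin 3, a ≠ b → v a * φ v hv (ee a) = v b * φ v hv (ee b) := by
      intro v hv hv0 a b hab
      obtain ⟨c, hca, hcb⟩ := exists_third a b
      set α := φ v hv (ee a)
      set β := φ v hv (ee b)
      have hα : α ≠ 0 := fun h => hv0 a (hee a v hv h)
      have hβ : β ≠ 0 := fun h => hv0 b (hee b v hv h)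
      set P := β • (ee a : V3 F) + (-α) • ee b
      have hP0 : P ≠ 0 := fun h => hβ (by simpa [P, ee, hab, hab.symm] using congrFun h a)
      have hvP : φ v hv P = 0 := by simp [P, α, β]; ring
      have h1 := hsym v P hv hP0 hvP
      set ψ : D3 F := β⁻¹ • p a + (-α)⁻¹ • p b
      have hψ : ψ P = 2 := by
        simp [ψ, P, p, ee, hab, hab.symm, inv_mul_cancel₀ hα, inv_mul_cancel₀ hβ]
        norm_num
      have hψM : hml P ψ ∈ M := S.mono _ (fun y => by
        refine ⟨if y = a then b else if y = b then a else y, fun x hx => ?_⟩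
        rw [hml_apply hψ]
        rcases eq_of_three hca hcb hab y with rfl | rfl | rfl <;>
          rcases eq_of_three hca hcb hab x with rfl | rfl | rfl <;>
          simp [ψ, P, p, ee, hab, hab.symm, hca, hca.symm, hcb, hcb.symm] at hx ⊢ <;>
          field_simp <;> ring) (hml_mem_sl _ _)
      rw [hml_unique hno hP0 (hφ P hP0) hψ (hφM P hP0) hψM] at h1
      simp [ψ, p] at h1
      field_simp at h1
      linear_combination h1
    set Q1 : V3 F := fun _ => 1
    set Q2 : V3 F := ![1, 1, -2]
    have hQ1 : Q1 ≠ 0 := fun h => one_ne_zero (congrFun h 0)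
    have hQ2 : Q2 ≠ 0 := fun h => one_ne_zero (congrFun h 0)
    have f1 := hfull Q1 hQ1 (fun _ => one_ne_zero)
    have f2 := hfull Q2 hQ2 (fun t => by fin_cases t <;> simp [Q2, h2])
    have hlin : ∀ (φ : D3 F) (v : V3 F),
        φ v = v 0 * φ (ee 0) + v 1 * φ (ee 1) + v 2 * φ (ee 2) := fun φ v => by
      conv_lhs => rw [expand3 (i := 0) (j := 1) (k := 2) (by decide) (by decide) (by decide) v]
      simp
    have a01 := f1 0 1 (by decide)
    have a02 := f1 0 2 (by decide)
    simp only [Q1, one_mul] at a01 a02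
    have h12 : φ Q1 hQ1 Q2 = 0 := by
      rw [hlin, ← a01, ← a02]
      simp [Q2]
      ring
    have h21 := hsym Q1 Q2 hQ1 hQ2 h12
    rw [hlin] at h21
    have b01 := f2 0 1 (by decide)
    have b02 := f2 0 2 (by decide)
    have hX := hφ Q2 hQ2
    rw [hlin] at hX
    simp [Q1, Q2] at h21 b01 b02 hX
    have h0 : 3 * φ Q2 hQ2 (ee 0) = 0 := by linear_combination 2 * h21 - b02 + 2 * b01
    have hx0 := (mul_eq_zero.1 h0).resolve_left h3
    exact h2 (by linear_combination -hX + 3 * hx0 - b01 - b02)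

end MSetup

end Cfsg.Agent.SL3Max
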