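/-
The monomial subgroup of `SL₃(q)`, `q ≥ 5`, is maximal.
Main results:
* `sl_le_of_not_mono3`
* `decomposition_maximal3`
-/
import Cfsg.Agent.Lib.SL3Max.MonoSeven
import Cfsg.Agent.Lib.Transvect.BlockLine

set_option autoImplicit false
set_option linter.unusedSectionVars false

namespace Cfsg.Agent.SL3Max

open Cfsg.Agent.Transvect Module Matrix

variable {F : Type*} [Field F] [Fintype F]

/-- A torus scalar whose cube is neither `1` nor `-1`. -/
lemma exists_cube_ne_sign (hq : 5 ≤ Fintype.card F) (h7 : Fintype.card F ≠ 7) :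
    ∃ a : F, a ≠ 0 ∧ a ^ 3 ≠ 1 ∧ a ^ 3 ≠ -1 := by
  classical
  by_contra! hall
  have h6 : ∀ x : F, x ≠ 0 → x ^ 6 = 1 := fun x hx => by
    by_cases h : x ^ 3 = 1
    · rw [show 6 = 3 * 2 from rfl, pow_mul, h, one_pow]
    · rw [show 6 = 3 * 2 from rfl, pow_mul, hall x hx h]; ring
  have hcount : ∀ n, 0 < n → (∀ x : F, x ≠ 0 → x ^ n = 1) → Fintype.card F ≤ n + 1 := by
    intro n hn hx
    have hsub : Finset.univ.erase (0 : F) ⊆ (Polynomial.nthRoots n (1 : F)).toFinset := fun x h => by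
      rw [Multiset.mem_toFinset, Polynomial.mem_nthRoots hn]
      exact hx x (Finset.ne_of_mem_erase h)
    have h1 := Finset.card_le_card hsub
    have h2 := Multiset.toFinset_card_le (Polynomial.nthRoots n (1 : F))
    have h3 := Polynomial.card_nthRoots n (1 : F)
    rw [Finset.card_erase_of_mem (Finset.mem_univ _), Finset.card_univ] at h1
    omega
  have hle := hcount 6 (by norm_num) h6
  have h56 : Fintype.card F = 5 ∨ Fintype.card F = 6 := by omega
  have h2 := hcount 2 (by norm_num) fun x hx => by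
    have hp := FiniteField.pow_card_sub_one_eq_one x hx
    rcases h56 with h | h <;> rw [h] at hp
    · have := h6 x hx
      rw [show 6 = (5 - 1) + 2 from rfl, pow_add, hp, one_mul] at this
      exact this
    · have := h6 x hx
      rw [show 6 = (6 - 1) + 1 from rfl, pow_add, hp, one_mul, pow_one] at this
      rw [this, one_pow]
  omega

variable {M : Subgroup (GL (Fin 3) F)}

/-- An overgroup of the monomial group with a non-monomial element is `SL₃`. -/
theorem sl_le_of_not_mono3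
    (hM : ∀ g : GL (Fin 3) F, IsMono g → g ∈ Cfsg.Geo.specialLinear (Fin 3) F → g ∈ M)
    (hq : 5 ≤ Fintype.card F) (hSL : M ≤ Cfsg.Geo.specialLinear (Fin 3) F) {g : GL (Fin 3) F}
    (hg : g ∈ M) (hgm : ¬ IsMono g) : Cfsg.Geo.specialLinear (Fin 3) F ≤ M := by
  classical
  by_cases hfix : ∃ h ∈ M, ¬ IsMono h ∧ ∃ (k : Fin 3) (c : F), app h (ee k) = c • ee k
  · obtain ⟨h, hh, hhm, k, c, hk⟩ := hfix
    exact sl_le_of_fixed hM hq hSL hh hhm hk
  exfalso
  have S : MSetup M := ⟨hM, hq, hSL, fun h hh k c hk => by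
    by_contra hhm
    exact hfix ⟨h, hh, hhm, k, c, hk⟩⟩
  by_cases h0 : ∀ h ∈ M, ∀ s k, app h (ee s) k = 0 → IsMono h
  · exact hgm (S.all_mono_general h0 g hg)
  push Not at h0
  obtain ⟨h, hh, s, k, hk, hhm⟩ := h0
  by_cases h7 : Fintype.card F = 7
  · obtain ⟨i, hik, -⟩ := exists_third k k
    obtain ⟨j, hjk, hji⟩ := exists_third k i
    refine S.all_mono_seven h7 hh hji.symm hik hjk hk (fun h0 => ?_) (fun h0 => ?_)
    · refine hhm (S.mono_of_single hh (s := s) (r := j) fun x hx => ?_)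
      rcases eq_of_three hji.symm hik hjk x with e | e | e
      · rw [e]; exact h0
      · exact absurd e hx
      · rw [e]; exact hk
    · refine hhm (S.mono_of_single hh (s := s) (r := i) fun x hx => ?_)
      rcases eq_of_three hji.symm hik hjk x with e | e | e
      · exact absurd e hx
      · rw [e]; exact h0
      · rw [e]; exact hk
  · obtain ⟨a, ha, ha3, ha3'⟩ := exists_cube_ne_sign hq h7
    exact hhm (S.no_two ha ha3 ha3' hh hk)

/-- The stabiliser of three independent lines is maximal, `q ≥ 5`. -/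
theorem decomposition_maximal3 (hq : 5 ≤ Fintype.card F) {D : Fin 3 → Submodule F (Fin 3 → F)}
    (hD : Cfsg.Geo.IsMDecomposition 1 D) :
    Cfsg.Geo.IsMaximalIn (Cfsg.Geo.specialLinear (Fin 3) F)
      (Cfsg.Geo.decompositionStabilizer D ⊓ Cfsg.Geo.specialLinear (Fin 3) F) := by
  classical
  refine isMaximalIn_of_forall inf_le_right ?_ fun M hH hSL g hg hgH => ?_
  · obtain ⟨x, hx, hx'⟩ := exists_sl_notMem_stab hD
    exact ⟨x, hx, fun h => hx' h.1⟩
  have hgD : g ∉ Cfsg.Geo.decompositionStabilizer D := fun h => hgH ⟨h, hSL hg⟩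
  obtain ⟨e, P, hP⟩ := exists_lineBasis hD
  set M' : Subgroup (GL (Fin 3) F) := M.comap (MulAut.conj P).toMonoidHom with hM'
  have hmem : ∀ x : GL (Fin 3) F, x ∈ M' ↔ P * x * P⁻¹ ∈ M := fun x => Iff.rfl
  have hdet : ∀ x : GL (Fin 3) F, P * x * P⁻¹ ∈ Cfsg.Geo.specialLinear (Fin 3) F ↔
      x ∈ Cfsg.Geo.specialLinear (Fin 3) F := fun x => by
    simp only [Cfsg.Geo.specialLinear, MonoidHom.mem_ker, map_mul, map_inv]
    rw [mul_comm, ← mul_assoc, inv_mul_cancel, one_mul]
  have hspan : ∀ k, ∀ x ∈ D (e k), ∃ c : F, x = c • app P (ee k) := fun k x hx => by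
    have hne : app P (ee k) ≠ 0 := fun h => ee_ne_zero k ((app P).map_eq_zero_iff.1 h)
    have h1 : Submodule.span F {app P (ee k)} = D (e k) := by
      refine Submodule.eq_of_le_of_finrank_eq ((Submodule.span_singleton_le_iff_mem _ _).2 (hP k)) ?_
      rw [finrank_span_singleton hne, hD.finrank_eq]
    rw [← h1] at hx
    obtain ⟨c, hc⟩ := Submodule.mem_span_singleton.1 hx
    exact ⟨c, hc.symm⟩
  have hmono : ∀ x : GL (Fin 3) F, IsMono x →
      P * x * P⁻¹ ∈ Cfsg.Geo.decompositionStabilizer D := by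
    intro x hx
    obtain ⟨π, c, rfl⟩ := exists_of_isMono hx
    refine BlockMap.mem hD (σ := (e.symm.trans π).trans e) fun i v hv => ?_
    obtain ⟨a, rfl⟩ := hspan (e.symm i) v (by simpa using hv)
    rw [map_smul, map_mul, map_mul, LinearEquiv.mul_apply, LinearEquiv.mul_apply, app_inv_app,
      app_pg_dg_ee, map_smul]
    exact Submodule.smul_mem _ _ (Submodule.smul_mem _ _ (hP _))
  have h' : Cfsg.Geo.specialLinear (Fin 3) F ≤ M' := by
    refine sl_le_of_not_mono3 (M := M') (g := P⁻¹ * g * P) (fun x hx hxS => ?_) hq ?_ ?_ ?_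
    · exact (hmem x).2 (hH ⟨hmono x hx, (hdet x).2 hxS⟩)
    · exact fun x hx => (hdet x).1 (hSL ((hmem x).1 hx))
    · rw [hmem]; simpa [mul_assoc] using hg
    · intro hc
      apply hgD
      simpa [mul_assoc] using hmono _ hc
  intro x hx
  have h1 : P⁻¹ * x * P ∈ Cfsg.Geo.specialLinear (Fin 3) F :=
    (hdet _).1 (by simpa [mul_assoc] using hx)
  simpa [mul_assoc] using (hmem _).1 (h' h1)

end Cfsg.Agent.SL3Max
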