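/-
Quadratic forms on `F³` in odd characteristic: frames, reflections, similarities from the conic.
Main results:
* `Setup`, `Setup.Bl`, `Setup.refl`
* `Setup.exists_transit`
* `Setup.similarity_of_conic`
-/
import Cfsg.Agent.Lib.SL3Max.Homology

set_option autoImplicit false
set_option linter.unusedSectionVars false

namespace Cfsg.Agent.SL3Max

open Cfsg.Agent.Transvect Module Matrix
open QuadraticMap (polar)

variable {F : Type*} [Field F] [Fintype F]

/-- A non-degenerate quadratic form on `F³` in odd characteristic. -/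
structure Setup (Q : (Fin 3 → F) → F) : Prop where
  nd : Cfsg.Geo.IsNondegenerateQuadraticForm Q
  two : (2 : F) ≠ 0

variable {Q : (Fin 3 → F) → F} (S : Setup Q)

namespace Setup

include S

/-- The functional `x ↦ B(x, v)`. -/
def Bl (v : Fin 3 → F) : D3 F where
  toFun x := polar Q x v
  map_add' x y := S.nd.polar_bilinear.add_left x y v
  map_smul' c x := S.nd.polar_bilinear.smul_left c x v

@[simp] lemma Bl_apply (v x : Fin 3 → F) : S.Bl v x = polar Q x v := rfl

lemma comm (x y : Fin 3 → F) : polar Q x y = polar Q y x := QuadraticMap.polar_comm Q x y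

lemma self (x : Fin 3 → F) : polar Q x x = 2 * Q x := by
  have : Q (x + x) = 4 * Q x := by rw [← two_smul F x, S.nd.smul]; ring
  rw [QuadraticMap.polar, this]; ring

lemma add_eq (x y : Fin 3 → F) : Q (x + y) = Q x + Q y + polar Q x y := by
  rw [QuadraticMap.polar]; ring

lemma smul_right (c : F) (x v : Fin 3 → F) : polar Q v (c • x) = c * polar Q v x :=
  S.nd.polar_bilinear.smul_right c v x

lemma add_right (x y v : Fin 3 → F) : polar Q v (x + y) = polar Q v x + polar Q v y :=
  S.nd.polar_bilinear.add_right v x y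

lemma smul_left (c : F) (x v : Fin 3 → F) : polar Q (c • x) v = c * polar Q x v :=
  S.nd.polar_bilinear.smul_left c x v

lemma add_left (x y v : Fin 3 → F) : polar Q (x + y) v = polar Q x v + polar Q y v :=
  S.nd.polar_bilinear.add_left x y v

lemma zero_left (v : Fin 3 → F) : polar Q 0 v = 0 := map_zero (S.Bl v)

lemma zero_right (v : Fin 3 → F) : polar Q v 0 = 0 := by rw [S.comm, S.zero_left]

lemma neg_left (x v : Fin 3 → F) : polar Q (-x) v = -polar Q x v := map_neg (S.Bl v) x

lemma Q_zero : Q 0 = 0 := by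
  have := S.nd.smul 0 0
  rwa [zero_smul, zero_pow two_ne_zero, zero_mul] at this

lemma Bl_ne_zero {v : Fin 3 → F} (hv : v ≠ 0) : S.Bl v ≠ 0 := fun h => by
  obtain ⟨x, hx⟩ := (S.nd.nondegenerate v hv).1
  exact hx (LinearMap.congr_fun h x)

lemma exists_perp (a b : Fin 3 → F) : ∃ z, z ≠ 0 ∧ polar Q z a = 0 ∧ polar Q z b = 0 := by
  obtain ⟨z, hz, hz0⟩ := Submodule.exists_mem_ne_zero_of_ne_bot
    (LinearMap.ker_ne_bot_of_finrank_lt (f := (S.Bl a).prod (S.Bl b)) (by simp))
  rw [LinearMap.mem_ker] at hz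
  exact ⟨z, hz0, congrArg Prod.fst hz, congrArg Prod.snd hz⟩

/-- A hyperbolic pair and an orthogonal anisotropic vector. -/
structure Fr (e e' w : Fin 3 → F) : Prop where
  ee : Q e = 0
  e'e' : Q e' = 0
  ee' : polar Q e e' = 1
  ew : polar Q e w = 0
  e'w : polar Q e' w = 0
  ww : Q w ≠ 0

variable {e e' w : Fin 3 → F}

lemma expand (h : Fr (Q := Q) e e' w) (x : Fin 3 → F) :
    x = polar Q x e' • e + polar Q x e • e' + (polar Q x w / (2 * Q w)) • w := by
  let Ψ : (Fin 3 → F) →ₗ[F] (Fin 3 → F) :=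
    LinearMap.pi ![S.Bl e', S.Bl e, (2 * Q w)⁻¹ • S.Bl w]
  let R : (Fin 3 → F) →ₗ[F] (Fin 3 → F) := Fintype.linearCombination F ![e, e', w]
  have hR : ∀ c, R c = c 0 • e + c 1 • e' + c 2 • w := fun c => by
    simp [R, Fintype.linearCombination_apply, Fin.sum_univ_three]
  have he'e : polar Q e' e = 1 := by rw [S.comm]; exact h.ee'
  have hwe : polar Q w e = 0 := by rw [S.comm]; exact h.ew
  have hwe' : polar Q w e' = 0 := by rw [S.comm]; exact h.e'w
  have hc : Ψ ∘ₗ R = LinearMap.id := LinearMap.ext fun c => funext fun i => by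
    simp only [LinearMap.comp_apply, hR, Ψ, LinearMap.pi_apply, LinearMap.id_apply, map_add,
      map_smul]
    fin_cases i <;> simp [S.self, h.ee, h.e'e', h.ee', h.ew, h.e'w, he'e, hwe, hwe']
    field_simp [h.ww, S.two]
  have h' : R ∘ₗ Ψ = LinearMap.id := (LinearMap.comp_eq_id_comm (f := Ψ) (g := R)).1 hc
  have h1 := LinearMap.congr_fun h' x
  rw [LinearMap.comp_apply, hR] at h1
  simpa [Ψ, div_eq_inv_mul] using h1.symm

lemma exists_partner {e x : Fin 3 → F} (he : Q e = 0) (hx : polar Q e x ≠ 0) :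
    ∃ a c : F, c ≠ 0 ∧ Q (c • (x + a • e)) = 0 ∧ polar Q e (c • (x + a • e)) = 1 := by
  refine ⟨-Q x / polar Q e x, (polar Q e x)⁻¹, inv_ne_zero hx, ?_, ?_⟩
  · rw [S.nd.smul, S.add_eq, S.nd.smul, he, S.smul_right, S.comm x e, div_mul_cancel₀ _ hx]
    ring
  · rw [S.smul_right, S.add_right, S.smul_right, S.self, he, mul_zero, mul_zero, add_zero,
      inv_mul_cancel₀ hx]

lemma fr_of_isotropic (he0 : e ≠ 0) (he : Q e = 0) : ∃ e' w, Fr (Q := Q) e e' w := by
  obtain ⟨x, hx⟩ := (S.nd.nondegenerate e he0).2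
  obtain ⟨a, c, hc, h1, h2⟩ := S.exists_partner he hx
  set e' := c • (x + a • e)
  obtain ⟨w, hw0, hwe, hwe'⟩ := S.exists_perp e e'
  refine ⟨e', w, he, h1, h2, by rw [S.comm]; exact hwe, by rw [S.comm]; exact hwe', fun hww => ?_⟩
  have he'e : polar Q e' e = 1 := by rw [S.comm]; exact h2
  have hind : LinearIndependent F ![e, e', w] := by
    rw [Fintype.linearIndependent_iff]
    intro k hk
    simp only [Fin.sum_univ_three, Matrix.cons_val_zero, Matrix.cons_val_one,
      Matrix.cons_val] at hk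
    have q1 := congrArg (S.Bl e') hk
    have q2 := congrArg (S.Bl e) hk
    simp only [map_add, map_smul, map_zero, Bl_apply, S.self, he, h1, h2, hwe, hwe', he'e,
      smul_eq_mul, mul_zero, mul_one, add_zero, zero_add] at q1 q2
    rw [q1, q2, zero_smul, zero_smul, zero_add, zero_add] at hk
    have q3 := (smul_eq_zero.1 hk).resolve_right hw0
    intro i; fin_cases i <;> assumption
  refine S.Bl_ne_zero hw0 (LinearMap.ext_on (hind.span_eq_top_of_card_eq_finrank (by simp)) ?_)
  rintro _ ⟨i, rfl⟩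
  fin_cases i
  · simpa [S.comm e w] using hwe
  · simpa [S.comm e' w] using hwe'
  · simp [S.self, hww]

/-- The functional of the homology at an anisotropic vector. -/
def rf (a : Fin 3 → F) : D3 F := (Q a)⁻¹ • S.Bl a

lemma rf_self {a : Fin 3 → F} (ha : Q a ≠ 0) : S.rf a a = 2 := by
  rw [rf, LinearMap.smul_apply, Bl_apply, S.self, smul_eq_mul]
  field_simp

/-- The homology at an anisotropic vector. -/
noncomputable def refl (a : Fin 3 → F) : GL (Fin 3) F := hml a (S.rf a)

lemma refl_apply {a : Fin 3 → F} (ha : Q a ≠ 0) (x : Fin 3 → F) :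
    app (S.refl a) x = -x + (polar Q x a / Q a) • a := by
  rw [refl, hml_apply (S.rf_self ha), rf, LinearMap.smul_apply, Bl_apply, smul_eq_mul,
    inv_mul_eq_div]

lemma refl_iso {a : Fin 3 → F} (ha : Q a ≠ 0) (x : Fin 3 → F) : Q (app (S.refl a) x) = Q x := by
  rw [S.refl_apply ha, S.add_eq, S.nd.smul, S.smul_right, S.neg_left,
    show Q (-x) = Q x by rw [← neg_one_smul F x, S.nd.smul]; ring]
  field_simp
  ring

lemma refl_mem {a : Fin 3 → F} (ha : Q a ≠ 0) :
    S.refl a ∈ Cfsg.Geo.quadSimilarityGroup Q ⊓ Cfsg.Geo.specialLinear (Fin 3) F :=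
  ⟨⟨1, fun v => by rw [Units.val_one, one_mul, ← app_apply]; exact S.refl_iso ha v⟩,
    hml_mem_sl _ _⟩

/-- Transitive on points with the same value of `Q`. -/
lemma exists_transit {v v' : Fin 3 → F} (hv : v ≠ 0) (hv' : v' ≠ 0) (hQ : Q v' = Q v) :
    ∃ h ∈ Cfsg.Geo.quadSimilarityGroup Q ⊓ Cfsg.Geo.specialLinear (Fin 3) F,
      ∃ c : F, app h v = c • v' := by
  -- the reflection in `v - b v'`, when that is anisotropic
  have key : ∀ b : F, b ≠ 0 → Q (v + b • v') ≠ 0 → b ^ 2 * Q v' = Q v →
      ∃ h ∈ Cfsg.Geo.quadSimilarityGroup Q ⊓ Cfsg.Geo.specialLinear (Fin 3) F,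
        ∃ c : F, app h v = c • v' := by
    intro b hb hne heq
    refine ⟨_, S.refl_mem hne, b, ?_⟩
    rw [S.refl_apply hne]
    have h1 : polar Q v (v + b • v') = Q (v + b • v') := by
      rw [S.add_right, S.smul_right, S.self, S.add_eq, S.nd.smul, S.smul_right, heq]
      ring
    rw [h1, div_self hne, one_smul]
    abel
  by_cases h0 : Q v = 0
  · by_cases hB : polar Q v v' = 0
    · -- the same point
      obtain ⟨e', w, hFr⟩ := S.fr_of_isotropic hv h0
      have hexp := S.expand hFr v'
      rw [S.comm v' v, hB, zero_smul, add_zero] at hexp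
      set b := polar Q v' w / (2 * Q w)
      have hQ0 := congrArg Q hexp
      rw [S.add_eq, S.nd.smul, S.nd.smul, S.smul_left, S.smul_right, h0, hFr.ew, hQ, h0] at hQ0
      have hb : b = 0 := by
        have : b ^ 2 * Q w = 0 := by linear_combination -hQ0
        rcases mul_eq_zero.1 this with h | h
        · exact eq_zero_of_pow_eq_zero h
        · exact absurd h hFr.ww
      rw [hb, zero_smul, add_zero] at hexp
      have hc : polar Q v' e' ≠ 0 := fun h => hv' (by rw [hexp, h, zero_smul])
      generalize polar Q v' e' = k at hexp hc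
      exact ⟨1, one_mem _, k⁻¹, by
        rw [map_one, LinearEquiv.coe_one, id, hexp, smul_smul, inv_mul_cancel₀ hc, one_smul]⟩
    · refine key 1 one_ne_zero ?_ (by rw [hQ]; ring)
      rw [one_smul, S.add_eq, h0, hQ, h0, zero_add, zero_add]
      exact hB
  · by_cases hp : Q (v + (1 : F) • v') = 0
    · refine key (-1) (neg_ne_zero.2 one_ne_zero) ?_ (by rw [hQ]; ring)
      intro hm
      rw [S.add_eq, S.nd.smul, S.smul_right, hQ] at hp hm
      exact h0 (mul_left_cancel₀ (mul_ne_zero S.two S.two) (by linear_combination hp + hm))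
    · exact key 1 one_ne_zero hp (by rw [hQ]; ring)

/-- An element preserving the conic is a similarity. -/
lemma similarity_of_conic {g : GL (Fin 3) F} (h1 : ∀ u, Q u = 0 → Q (app g u) = 0)
    (h1' : ∀ u, Q (app g u) = 0 → Q u = 0) {e : Fin 3 → F} (he0 : e ≠ 0) (he : Q e = 0) :
    g ∈ Cfsg.Geo.quadSimilarityGroup Q := by
  have htan : ∀ u, u ≠ 0 → Q u = 0 → ∀ x, polar Q x u = 0 →
      polar Q (app g x) (app g u) = 0 := by
    intro u hu0 hu x hxu
    by_contra hne
    obtain ⟨a, c, hc, hq, -⟩ := S.exists_partner (h1 u hu)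
      (show polar Q (app g u) (app g x) ≠ 0 from fun h => hne ((S.comm _ _).trans h))
    rw [← map_smul, ← map_add, ← map_smul] at hq
    have h3 := h1' _ hq
    obtain ⟨e', w, hFr⟩ := S.fr_of_isotropic hu0 hu
    rw [S.nd.smul, S.add_eq, S.nd.smul, hu, S.smul_right, hxu, mul_zero, mul_zero, add_zero,
      add_zero, mul_eq_zero, or_iff_right (pow_ne_zero 2 hc)] at h3
    have hexp := S.expand hFr x
    rw [hxu, zero_smul, add_zero] at hexp
    set b := polar Q x w / (2 * Q w)
    rw [hexp, S.add_eq, S.nd.smul, S.nd.smul, S.smul_left, S.smul_right, hu, hFr.ew] at h3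
    have hb : b = 0 := by
      have : b ^ 2 * Q w = 0 := by linear_combination h3
      rcases mul_eq_zero.1 this with h | h
      · exact eq_zero_of_pow_eq_zero h
      · exact absurd h hFr.ww
    apply hne
    rw [hexp, hb, zero_smul, add_zero, map_smul, S.smul_left, S.self, h1 u hu, mul_zero, mul_zero]
  have heig : ∀ u, u ≠ 0 → Q u = 0 →
      ∃ l : F, ∀ x, polar Q (app g x) (app g u) = l * polar Q x u := by
    intro u hu0 hu
    obtain ⟨e', w, hFr⟩ := S.fr_of_isotropic hu0 hu
    refine ⟨polar Q (app g e') (app g u), fun x => ?_⟩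
    have hd : polar Q (x + (-polar Q x u) • e') u = 0 := by
      rw [S.add_left, S.smul_left, S.comm e' u, hFr.ee']
      ring
    have h2 := htan u hu0 hu _ hd
    rw [map_add, map_smul, S.add_left, S.smul_left] at h2
    linear_combination h2
  obtain ⟨e', w, hFr⟩ := S.fr_of_isotropic he0 he
  have he'e : polar Q e' e = 1 := by rw [S.comm]; exact hFr.ee'
  have hwe : polar Q w e = 0 := by rw [S.comm]; exact hFr.ew
  have hwe' : polar Q w e' = 0 := by rw [S.comm]; exact hFr.e'w
  have hne : ∀ {u : Fin 3 → F}, polar Q u e' = 1 → u ≠ 0 := fun h h0 =>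
    one_ne_zero (h.symm.trans (by rw [h0, S.zero_left]))
  have he'0 : e' ≠ 0 := fun h => one_ne_zero (hFr.ee'.symm.trans (by rw [h, S.zero_right]))
  obtain ⟨l, hl⟩ := heig e he0 he
  obtain ⟨l', hl'⟩ := heig e' he'0 hFr.e'e'
  set u := e + (-Q w) • e' + w
  have hue' : polar Q u e' = 1 := by
    rw [S.add_left, S.add_left, S.smul_left, hFr.ee', S.self, hFr.e'e', hwe']
    ring
  have hu : Q u = 0 := by
    rw [S.add_eq, S.add_eq, S.nd.smul, S.smul_right, S.add_left, S.smul_left, he, hFr.e'e',
      hFr.ee', hFr.ew, hFr.e'w]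
    ring
  obtain ⟨m, hm⟩ := heig u (hne hue') hu
  have hmx : ∀ x, l * polar Q x e + -Q w * (l' * polar Q x e') + polar Q (app g x) (app g w) =
      m * (polar Q x e + -Q w * polar Q x e' + polar Q x w) := by
    intro x
    have h2 := hm x
    rw [map_add, map_add, map_smul, S.add_right, S.add_right, S.smul_right, hl, hl', S.add_right,
      S.add_right, S.smul_right] at h2
    exact h2
  have p1 := hmx e'
  have q1 := hmx e
  rw [S.comm (app g e') (app g w), hl', he'e, S.self e', hFr.e'e', hwe', hFr.e'w] at p1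
  rw [S.comm (app g e) (app g w), hl, hFr.ee', S.self e, he, hwe, hFr.ew] at q1
  have hml : l = m := by linear_combination p1
  have hl'm : l' = m := mul_left_cancel₀ hFr.ww (by linear_combination -q1)
  subst hml hl'm
  have hw' : ∀ x, polar Q (app g x) (app g w) = l' * polar Q x w := fun x => by
    linear_combination hmx x
  have hl0 : l' ≠ 0 := by
    intro h0
    obtain ⟨y, hy⟩ := (S.nd.nondegenerate (app g e)
      (fun h => he0 ((app g).map_eq_zero_iff.1 h))).1
    apply hy
    rw [← app_app_inv g y, hl, h0, zero_mul]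
  refine ⟨Units.mk0 l' hl0, fun v => ?_⟩
  have key : polar Q (app g v) (app g v) = l' * polar Q v v := by
    conv_lhs => arg 3; rw [S.expand hFr v]
    conv_rhs => arg 2; arg 3; rw [S.expand hFr v]
    simp only [map_add, map_smul, S.add_right, S.smul_right, hl, hl', hw']
    ring
  rw [S.self, S.self, app_apply] at key
  exact mul_left_cancel₀ S.two (by rw [Units.val_mk0]; linear_combination key)

end Setup

end Cfsg.Agent.SL3Max
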