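/-
Power sums of quadratic polynomials.
Main results:
* `sum_quad_pow`
* `sum_affine_eq` : the sum of a scale-invariant function over an affine plane
-/
import Cfsg.Agent.Lib.SL3Max.Flags

set_option autoImplicit false
set_option linter.unusedSectionVars false

namespace Cfsg.Agent.SL3Max

open Finset

variable {F : Type*} [Field F] [Fintype F]

lemma sum_quad_pow {n k : ℕ} (C : Fin n → Fin n → F)
    (hk : 2 * k < (Fintype.card F - 1) * n) :
    ∑ x : Fin n → F, (∑ i, ∑ j, C i j * (x i * x j)) ^ k = 0 := by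
  classical
  let P : MvPolynomial (Fin n) F :=
    (∑ i, ∑ j, MvPolynomial.C (C i j) * (MvPolynomial.X i * MvPolynomial.X j)) ^ k
  have hdeg : P.totalDegree < (Fintype.card F - 1) * Fintype.card (Fin n) := by
    rw [Fintype.card_fin]
    refine lt_of_le_of_lt (le_trans (MvPolynomial.totalDegree_pow _ _) ?_) hk
    rw [mul_comm 2 k]
    refine Nat.mul_le_mul_left k ?_
    refine MvPolynomial.totalDegree_finsetSum_le fun i _ => ?_
    refine MvPolynomial.totalDegree_finsetSum_le fun j _ => ?_
    refine le_trans (MvPolynomial.totalDegree_mul _ _) ?_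
    rw [MvPolynomial.totalDegree_C, zero_add]
    refine le_trans (MvPolynomial.totalDegree_mul _ _) ?_
    rw [MvPolynomial.totalDegree_X, MvPolynomial.totalDegree_X]
  have h := MvPolynomial.sum_eval_eq_zero P hdeg
  simpa [P, map_pow, map_sum] using h

/-- A scale-invariant function: the sum on `φ = 1` is the sum on `φ = 0`, minus the total. -/
lemma sum_affine_eq {G : (Fin 3 → F) → F} (hG : ∀ (a : F) x, a ≠ 0 → G (a • x) = G x)
    (htot : ∑ x, G x = 0) (φ : D3 F) [DecidableEq F] :
    ∑ x ∈ univ.filter (fun x => φ x = 1), G x = ∑ x ∈ univ.filter (fun x => φ x = 0), G x := by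
  classical
  have hsplit : ∑ x, G x = ∑ t : F, ∑ x ∈ univ.filter (fun x => φ x = t), G x :=
    (Finset.sum_fiberwise univ (fun x => φ x) G).symm
  have ht : ∀ t : F, t ≠ 0 → ∑ x ∈ univ.filter (fun x => φ x = t), G x =
      ∑ x ∈ univ.filter (fun x => φ x = 1), G x := by
    intro t ht
    refine Finset.sum_bij' (fun x _ => t⁻¹ • x) (fun x _ => t • x) ?_ ?_ ?_ ?_ ?_
    · intro x hx; simp at hx ⊢; simp [hx, inv_mul_cancel₀ ht]
    · intro x hx; simp at hx ⊢; simp [hx]
    · intro x _; simp [smul_smul, mul_inv_cancel₀ ht]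
    · intro x _; simp [smul_smul, inv_mul_cancel₀ ht]
    · intro x _; rw [hG _ _ (inv_ne_zero ht)]
  rw [hsplit, ← Finset.add_sum_erase _ _ (Finset.mem_univ (0 : F)),
    Finset.sum_congr rfl (fun t h => ht t (Finset.ne_of_mem_erase h)), Finset.sum_const,
    Finset.card_erase_of_mem (Finset.mem_univ _), Finset.card_univ, nsmul_eq_mul,
    Nat.cast_sub Fintype.card_pos, FiniteField.cast_card_eq_zero, Nat.cast_one] at htot
  linear_combination -htot

end Cfsg.Agent.SL3Max
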