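/-
The similarities of a quadratic form on `F³`, `|F|` odd, are maximal in `SL₃(F)`.
Main results:
* `Setup.axis_tangent` : axes of an intransitive overgroup are tangents
* `orth_maximal`
-/
import Cfsg.Agent.Lib.SL3Max.OrthBasic
import Cfsg.Agent.Lib.SL3Max.OrthSums
import Cfsg.Agent.Lib.SL3Max.Orbits

set_option autoImplicit false
set_option linter.unusedSectionVars false

namespace Cfsg.Agent.SL3Max

open Cfsg.Agent.Transvect Module Matrix Finset
open QuadraticMap (polar)

variable {F : Type*} [Field F] [Fintype F] {Q : (Fin 3 → F) → F} (S : Setup Q)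

namespace Setup

include S

lemma card_sub_one : ∃ m, Fintype.card F = 2 * m + 1 ∧ 1 ≤ m := by
  obtain ⟨m, hm⟩ : Odd (Fintype.card F) := by
    rw [Nat.odd_iff]
    refine FiniteField.odd_card_of_char_ne_two fun h => ?_
    have := ringChar.charP F
    rw [h] at this
    exact S.two (by exact_mod_cast CharP.cast_eq_zero F 2)
  exact ⟨m, hm, by have := Fintype.one_lt_card (α := F); omega⟩

lemma Q_lin (x : Fin 3 → F) : Q x = ∑ i, ∑ j,
    (2 : F)⁻¹ * polar Q (Pi.single i 1) (Pi.single j 1) * (x i * x j) := by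
  have h : 2 * Q x = ∑ i, ∑ j, x i * x j * polar Q (Pi.single i 1) (Pi.single j 1) := by
    rw [← S.self x]
    conv_lhs => rw [pi_eq_sum_univ' x]
    show S.Bl (∑ j, x j • Pi.single j 1) (∑ i, x i • Pi.single i 1) = _
    rw [map_sum]
    refine Finset.sum_congr rfl fun i _ => ?_
    rw [map_smul, Bl_apply, S.comm]
    show x i • S.Bl (Pi.single i 1) (∑ j, x j • Pi.single j 1) = _
    rw [map_sum, smul_eq_mul, Finset.mul_sum]
    refine Finset.sum_congr rfl fun j _ => ?_
    rw [map_smul, Bl_apply, smul_eq_mul, S.comm (Pi.single j 1)]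
    ring
  have h2 : Q x = 2⁻¹ * (2 * Q x) := by rw [← mul_assoc, inv_mul_cancel₀ S.two, one_mul]
  rw [h2, h, Finset.mul_sum]
  refine Finset.sum_congr rfl fun i _ => ?_
  rw [Finset.mul_sum]
  exact Finset.sum_congr rfl fun j _ => by ring

lemma sum_Q_pow (k : F) {n : ℕ} (hn : 2 * n < (Fintype.card F - 1) * 3) :
    ∑ x : Fin 3 → F, (k * Q x) ^ n = 0 := by
  have h := sum_quad_pow
    (fun i j => k * ((2 : F)⁻¹ * polar Q (Pi.single i 1) (Pi.single j 1))) hn
  rw [← h]
  refine Finset.sum_congr rfl fun x _ => ?_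
  rw [S.Q_lin x, Finset.mul_sum]
  congr 1
  refine Finset.sum_congr rfl fun i _ => ?_
  rw [Finset.mul_sum]
  exact Finset.sum_congr rfl fun j _ => by ring

/-- There is a point on the conic. -/
lemma exists_conic : ∃ e : Fin 3 → F, e ≠ 0 ∧ Q e = 0 := by
  classical
  by_contra! hne
  have hsum : ∑ x : Fin 3 → F, (1 * Q x) ^ (Fintype.card F - 1) = 0 :=
    S.sum_Q_pow 1 (by have := Fintype.one_lt_card (α := F); omega)
  have hq : Fintype.card F - 1 ≠ 0 := by have := Fintype.one_lt_card (α := F); omega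
  rw [← Finset.add_sum_erase _ _ (Finset.mem_univ (0 : Fin 3 → F)), S.Q_zero, mul_zero,
    zero_pow hq, zero_add,
    Finset.sum_congr rfl (fun x hx => by
      rw [one_mul, FiniteField.pow_card_sub_one_eq_one _ (hne x (Finset.ne_of_mem_erase hx))]),
    Finset.sum_const, Finset.card_erase_of_mem (Finset.mem_univ _), Finset.card_univ,
    nsmul_eq_mul, mul_one, Nat.cast_sub Fintype.card_pos, Fintype.card_fun, Fintype.card_fin,
    Nat.cast_pow, FiniteField.cast_card_eq_zero, Nat.cast_one] at hsum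
  simp at hsum

lemma polar_app {g : GL (Fin 3) F} {c : F} (hc : ∀ v, Q (app g v) = c * Q v) (x y : Fin 3 → F) :
    polar Q (app g x) (app g y) = c * polar Q x y := by
  simp only [QuadraticMap.polar, ← map_add, hc]
  ring

lemma eq_smul_of_perp {u w' : Fin 3 → F} (hu0 : u ≠ 0) (hu : Q u = 0) (hw : Q w' = 0)
    (h : polar Q w' u = 0) : ∃ c : F, w' = c • u := by
  obtain ⟨e', w, hFr⟩ := S.fr_of_isotropic hu0 hu
  have hexp := S.expand hFr w'
  rw [h, zero_smul, add_zero] at hexp
  set b := polar Q w' w / (2 * Q w)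
  have hQ0 := congrArg Q hexp
  rw [S.add_eq, S.nd.smul, S.nd.smul, S.smul_left, S.smul_right, hu, hFr.ew, hw] at hQ0
  have hb : b = 0 := by
    have : b ^ 2 * Q w = 0 := by linear_combination -hQ0
    rcases mul_eq_zero.1 this with h | h
    · exact eq_zero_of_pow_eq_zero h
    · exact absurd h hFr.ww
  rw [hb, zero_smul, add_zero] at hexp
  exact ⟨polar Q w' e', hexp⟩

variable {M : Subgroup (GL (Fin 3) F)}

/-- If a class of anisotropic points is invariant, every axis is a tangent. -/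
lemma axis_tangent {k : F} (hk : k ≠ 0)
    (hinv : ∀ g ∈ M, ∀ x, (∃ a : F, a ≠ 0 ∧ Q x = a ^ 2 * k) →
      ∃ a : F, a ≠ 0 ∧ Q (app g x) = a ^ 2 * k)
    {φ : D3 F} (hφ : Axis M φ) : ∃ u, u ≠ 0 ∧ Q u = 0 ∧ ∃ a : F, φ = a • S.Bl u := by
  classical
  obtain ⟨hφ0, c, hc0, hφc, hc⟩ := hφ
  obtain ⟨m, hm, hm1⟩ := S.card_sub_one
  have hm0 : m ≠ 0 := by omega
  -- the square class of `k`
  have hsq : ∀ x, (∃ a : F, a ≠ 0 ∧ Q x = a ^ 2 * k) ↔ (k⁻¹ * Q x) ^ m = 1 := by
    intro x
    constructor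
    · rintro ⟨a, ha, hQ⟩
      rw [hQ, show k⁻¹ * (a ^ 2 * k) = a ^ 2 by field_simp, ← pow_mul,
        show 2 * m = Fintype.card F - 1 by omega, FiniteField.pow_card_sub_one_eq_one a ha]
    · intro h
      have hne : k⁻¹ * Q x ≠ 0 := fun h0 => by
        rw [h0, zero_pow hm0] at h; exact zero_ne_one h
      have h2 : ringChar F ≠ 2 := fun h2 => by
        have := ringChar.charP F
        rw [h2] at this
        exact S.two (by exact_mod_cast CharP.cast_eq_zero F 2)
      obtain ⟨a, ha⟩ := (FiniteField.isSquare_iff h2 hne).2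
        (by rw [show Fintype.card F / 2 = m by omega]; exact h)
      refine ⟨a, fun h0 => hne (by rw [ha, h0, mul_zero]), ?_⟩
      rw [sq, ← ha, mul_comm k⁻¹, mul_assoc, inv_mul_cancel₀ hk, mul_one]
  -- the translation by `c`
  set T := univ.filter (fun x => φ x = 1 ∧ (k⁻¹ * Q x) ^ m = 1)
  have hT : (T.card : F) = 0 := by
    obtain ⟨ψ, -, hψ⟩ := exists_dual_eq_one (W := (⊥ : Submodule F (V3 F))) (u := c)
      (by simpa using hc0)
    have hmemT : ∀ x ∈ T, x + c ∈ T := by
      intro x hx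
      simp only [T, Finset.mem_filter, Finset.mem_univ, true_and] at hx ⊢
      refine ⟨by rw [map_add, hφc, hx.1, add_zero], (hsq _).1 ?_⟩
      have h := hinv _ hc x ((hsq _).2 hx.2)
      rwa [tv_apply hφc, hx.1, one_smul] at h
    have himg : T.image (· + c) = T := by
      refine Finset.eq_of_subset_of_card_le (fun y hy => ?_)
        (by rw [Finset.card_image_of_injective _ (add_left_injective c)])
      obtain ⟨x, hx, rfl⟩ := Finset.mem_image.1 hy
      exact hmemT x hx
    have h1 : ∑ x ∈ T, ψ (x + c) = ∑ x ∈ T, ψ x := by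
      conv_rhs => rw [← himg]
      rw [Finset.sum_image fun a _ b _ h => add_left_injective c h]
    rw [Finset.sum_congr rfl (fun x _ => by rw [map_add, hψ]), Finset.sum_add_distrib,
      Finset.sum_const, nsmul_eq_mul, mul_one] at h1
    linear_combination h1
  -- as a sum
  have hscale : ∀ (j : ℕ), j = m ∨ j = 2 * m → ∀ (a : F) (x : Fin 3 → F), a ≠ 0 → m ≠ 0 →
      (k⁻¹ * Q (a • x)) ^ (j * 1) = (k⁻¹ * Q x) ^ (j * 1) := by
    intro j hj a x ha _
    rw [S.nd.smul, mul_left_comm, mul_pow (a ^ 2), ← pow_mul]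
    have hone : a ^ (2 * (j * 1)) = 1 := by
      rcases hj with rfl | rfl
      · rw [mul_one, show 2 * j = Fintype.card F - 1 by omega,
          FiniteField.pow_card_sub_one_eq_one a ha]
      · rw [mul_one, show 2 * (2 * m) = (Fintype.card F - 1) * 2 by omega, pow_mul,
          FiniteField.pow_card_sub_one_eq_one a ha, one_pow]
    rw [hone, one_mul]
  have hind : ∀ x, (if (k⁻¹ * Q x) ^ m = 1 then (2 : F) else 0) =
      (k⁻¹ * Q x) ^ (2 * m) + (k⁻¹ * Q x) ^ m := by
    intro x
    by_cases h0 : k⁻¹ * Q x = 0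
    · rw [h0, zero_pow hm0, if_neg zero_ne_one, zero_pow (by omega), add_zero]
    · have hy := FiniteField.pow_card_sub_one_eq_one _ h0
      rw [show Fintype.card F - 1 = 2 * m by omega] at hy
      rw [hy]
      rw [mul_comm 2 m, pow_mul] at hy
      split
      · next h => rw [h]; ring
      · next h => rw [(sq_eq_one_iff.1 hy).resolve_left h]; ring
  have hsum : ∑ x ∈ univ.filter (fun x => φ x = 1),
      ((k⁻¹ * Q x) ^ (2 * m) + (k⁻¹ * Q x) ^ m) = 0 := by
    rw [← Finset.sum_congr rfl (fun x _ => hind x), Finset.sum_ite, Finset.sum_const_zero,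
      add_zero, Finset.sum_const, Finset.filter_filter, nsmul_eq_mul, hT, zero_mul]
  rw [Finset.sum_add_distrib,
    sum_affine_eq (G := fun x => (k⁻¹ * Q x) ^ (2 * m))
      (fun a x ha => by simpa using hscale (2 * m) (Or.inr rfl) a x ha hm0)
      (S.sum_Q_pow _ (by omega)) φ,
    sum_affine_eq (G := fun x => (k⁻¹ * Q x) ^ m)
      (fun a x ha => by simpa using hscale m (Or.inl rfl) a x ha hm0)
      (S.sum_Q_pow _ (by omega)) φ] at hsum
  -- a point of the conic on the line
  by_contra! hno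
  obtain ⟨a, ha0, hφa, hcases⟩ : ∃ a, a ≠ 0 ∧ φ a = 0 ∧
      (Q a = 0 ∨ ∀ x, x ≠ 0 → φ x = 0 → Q x ≠ 0) := by
    by_cases hex : ∃ u, u ≠ 0 ∧ φ u = 0 ∧ Q u = 0
    · obtain ⟨u, h1, h2, h3⟩ := hex; exact ⟨u, h1, h2, Or.inl h3⟩
    · exact ⟨c, hc0, hφc, Or.inr fun x h1 h2 h3 => hex ⟨x, h1, h2, h3⟩⟩
  obtain ⟨b, hb, hφb⟩ : ∃ b, b ∉ F ∙ a ∧ φ b = 0 := by
    by_contra! hall
    have hle : LinearMap.ker φ ≤ F ∙ a := fun x hx => by_contra fun hxn => hall x hxn hx
    have h1 := Submodule.finrank_mono hle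
    rw [finrank_span_singleton ha0] at h1
    have h3 := LinearMap.finrank_range_add_finrank_ker φ
    rw [LinearMap.range_eq_top.2 (LinearMap.surjective hφ0), finrank_top, finrank_self] at h3
    have h4 : finrank F (V3 F) = 3 := by simp
    rw [h4] at h3
    omega
  have hker : ∀ x, φ x = 0 → ∃ r s : F, r • a + s • b = x := fun x hx => by
    have : x ∈ LinearMap.ker φ := hx
    rwa [ker_eq_span hφ0 ha0 hb hφa hφb, Submodule.mem_span_pair] at this
  have hpar : ∀ G : (Fin 3 → F) → F,
      ∑ x ∈ univ.filter (fun x => φ x = 0), G x = ∑ y : Fin 2 → F, G (y 0 • a + y 1 • b) := by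
    intro G
    refine (Finset.sum_bij' (fun y _ => y 0 • a + y 1 • b)
      (fun x hx => ![(hker x (Finset.mem_filter.1 hx).2).choose,
        (hker x (Finset.mem_filter.1 hx).2).choose_spec.choose])
      (fun y _ => by simp [hφa, hφb]) (fun x hx => Finset.mem_univ _) ?_ ?_ (fun y _ => rfl)).symm
    · intro y hy
      have hx : φ (y 0 • a + y 1 • b) = 0 := by simp [hφa, hφb]
      have h := (hker _ hx).choose_spec.choose_spec
      set r := (hker _ hx).choose
      set s := (hker _ hx).choose_spec.choose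
      have hs : s = y 1 := by
        by_contra hne
        apply hb
        refine Submodule.mem_span_singleton.2 ⟨(y 0 - r) / (s - y 1), ?_⟩
        apply smul_right_injective (V3 F) (sub_ne_zero.2 hne)
        show (s - y 1) • _ = (s - y 1) • b
        rw [smul_smul, mul_div_cancel₀ _ (sub_ne_zero.2 hne)]
        linear_combination (norm := module) -h
      rw [hs] at h
      have hr : r = y 0 := by
        by_contra hne
        have : (r - y 0) • a = 0 := by linear_combination (norm := module) h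
        exact ha0 ((smul_eq_zero.1 this).resolve_left (sub_ne_zero.2 hne))
      funext i
      fin_cases i
      · exact hr
      · exact hs
    · intro x hx
      exact (hker x (Finset.mem_filter.1 hx).2).choose_spec.choose_spec
  have hQW : ∀ y : Fin 2 → F,
      Q (y 0 • a + y 1 • b) = y 0 ^ 2 * Q a + y 1 ^ 2 * Q b + y 0 * y 1 * polar Q a b := fun y => by
    rw [S.add_eq, S.nd.smul, S.nd.smul, S.smul_left, S.smul_right]; ring
  -- the power `m` sums to zero
  have hsm : ∑ y : Fin 2 → F, (k⁻¹ * Q (y 0 • a + y 1 • b)) ^ m = 0 := by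
    rw [← sum_quad_pow (F := F) (n := 2) (k := m)
      ![![k⁻¹ * Q a, k⁻¹ * polar Q a b], ![0, k⁻¹ * Q b]] (by omega)]
    refine Finset.sum_congr rfl fun y _ => ?_
    rw [hQW, Fin.sum_univ_two, Fin.sum_univ_two, Fin.sum_univ_two]
    simp only [Matrix.cons_val_zero, Matrix.cons_val_one]
    ring
  rw [hpar, hpar, hsm, add_zero] at hsum
  have hpow : ∀ y : Fin 2 → F, (k⁻¹ * Q (y 0 • a + y 1 • b)) ^ (2 * m) =
      1 - (if Q (y 0 • a + y 1 • b) = 0 then (1 : F) else 0) := fun y => by
    split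
    · next h => rw [h, mul_zero, zero_pow (by omega), sub_self]
    · next h =>
      rw [show 2 * m = Fintype.card F - 1 by omega,
        FiniteField.pow_card_sub_one_eq_one _ (mul_ne_zero (inv_ne_zero hk) h), sub_zero]
  rw [Finset.sum_congr rfl (fun y _ => hpow y), Finset.sum_sub_distrib, Finset.sum_const,
    Finset.card_univ, Fintype.card_fun, nsmul_eq_mul, Nat.cast_pow, FiniteField.cast_card_eq_zero,
    Fintype.card_fin, zero_pow two_ne_zero, zero_mul, zero_sub, neg_eq_zero] at hsum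
  rcases hcases with hQa | hall
  · by_cases hB : polar Q a b = 0
    · -- a tangent
      have h1 : ∀ x, φ x = 0 → S.Bl a x = 0 := fun x hx => by
        obtain ⟨r, s, rfl⟩ := hker x hx
        rw [map_add, map_smul, map_smul, Bl_apply, Bl_apply, S.self, hQa, S.comm b, hB]
        simp
      obtain ⟨l, hl⟩ := line_unique (S.Bl_ne_zero ha0) ha0 hb
        (h1 a hφa) (h1 b hφb) hφa hφb
      exact hno a ha0 hQa l hl
    · -- a secant
      rw [← (finTwoArrowEquiv F).symm.sum_comp, Fintype.sum_prod_type, Finset.sum_comm] at hsum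
      have hin : ∀ y1 : F, (∑ y0 : F,
          if Q (((finTwoArrowEquiv F).symm (y0, y1)) 0 • a +
              ((finTwoArrowEquiv F).symm (y0, y1)) 1 • b) = 0 then (1 : F) else 0) =
          if y1 = 0 then 0 else 1 := by
        intro y1
        have hQ2 : ∀ r t : F, Q (r • a + t • b) = t ^ 2 * Q b + r * t * polar Q a b := fun r t => by
          rw [S.add_eq, S.nd.smul, S.nd.smul, S.smul_left, S.smul_right, hQa]; ring
        simp only [finTwoArrowEquiv_symm_apply, Matrix.cons_val_zero, Matrix.cons_val_one, hQ2]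
        split
        · next h =>
          subst h
          simp [FiniteField.cast_card_eq_zero]
        · next h =>
          rw [Finset.sum_eq_single (-(y1 * Q b) / polar Q a b)]
          · rw [if_pos]
            field_simp
            ring
          · intro y0 _ hne
            rw [if_neg]
            intro h0
            apply hne
            rw [eq_div_iff hB]
            exact mul_left_cancel₀ h (by linear_combination h0)
          · intro h'; exact absurd (Finset.mem_univ _) h'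
      rw [Finset.sum_congr rfl (fun y1 _ => hin y1), Finset.sum_ite, Finset.sum_const_zero,
        Finset.sum_const, nsmul_eq_mul, mul_one, zero_add, Finset.filter_ne' univ (0 : F),
        Finset.card_erase_of_mem (Finset.mem_univ _), Finset.card_univ,
        Nat.cast_sub Fintype.card_pos, FiniteField.cast_card_eq_zero] at hsum
      simp at hsum
  · -- no point at all
    rw [Finset.sum_eq_single (0 : Fin 2 → F)] at hsum
    · simp [S.Q_zero] at hsum
    · intro y _ hy
      rw [if_neg]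
      refine hall _ (fun h => hy ?_) (by simp [hφa, hφb])
      have hy1 : y 1 = 0 := by
        by_contra hne
        refine hb (Submodule.mem_span_singleton.2 ⟨-(y 0) / y 1, ?_⟩)
        apply smul_right_injective (V3 F) hne
        show y 1 • _ = y 1 • b
        rw [smul_smul, mul_div_cancel₀ _ hne]
        linear_combination (norm := module) -h
      rw [hy1, zero_smul, add_zero] at h
      funext i
      fin_cases i
      · exact (smul_eq_zero.1 h).resolve_right ha0
      · exact hy1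
    · intro h; exact absurd (Finset.mem_univ _) h

end Setup

/-- The similarities of a quadratic form on `F³` are maximal, `|F|` odd. -/
theorem orth_maximal {Q : (Fin 3 → F) → F} (hodd : Odd (Fintype.card F))
    (hQ : Cfsg.Geo.IsNondegenerateQuadraticForm Q) :
    Cfsg.Geo.IsMaximalIn (Cfsg.Geo.specialLinear (Fin 3) F)
      (Cfsg.Geo.quadSimilarityGroup Q ⊓ Cfsg.Geo.specialLinear (Fin 3) F) := by
  classical
  have h2 : (2 : F) ≠ 0 := Ring.two_ne_zero fun h => by
    have := (FiniteField.even_card_iff_char_two (F := F)).1 h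
    have := Nat.odd_iff.1 hodd
    omega
  have hch : ringChar F ≠ 2 := fun h2' => by
    have := ringChar.charP F
    rw [h2'] at this
    exact h2 (by exact_mod_cast CharP.cast_eq_zero F 2)
  have S : Setup Q := ⟨hQ, h2⟩
  obtain ⟨e, he0, he⟩ := S.exists_conic
  obtain ⟨e', w, hFr⟩ := S.fr_of_isotropic he0 he
  have he'e : polar Q e' e = 1 := (S.comm _ _).trans hFr.ee'
  refine isMaximalIn_of_forall inf_le_right ?_ fun M hHM hMK g0 hg0 hg0H => ?_
  · refine ⟨tv w (S.Bl e), tv_mem_sl _ _, fun h => ?_⟩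
    obtain ⟨c, hc⟩ := h.1
    have hh := hc e'
    rw [← app_apply, tv_apply (by simpa [S.comm w e] using hFr.ew), Setup.Bl_apply, he'e, one_smul,
      S.add_eq, hFr.e'e', hFr.e'w, zero_add, add_zero, mul_zero] at hh
    exact hFr.ww hh
  -- a point of the conic moved off
  obtain ⟨g, hg, u, hu0, hu, hv⟩ : ∃ g ∈ M, ∃ u, u ≠ 0 ∧ Q u = 0 ∧ Q (app g u) ≠ 0 := by
    by_contra! hall
    refine hg0H ⟨S.similarity_of_conic (fun u hu => ?_) (fun u hu => ?_) he0 he, hMK hg0⟩
    · by_cases hu0 : u = 0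
      · rw [hu0, map_zero, S.Q_zero]
      · exact hall g0 hg0 u hu0 hu
    · by_cases hu0 : app g0 u = 0
      · rw [(app g0).map_eq_zero_iff.1 hu0, S.Q_zero]
      · have := hall g0⁻¹ (inv_mem hg0) _ hu0 hu
        rwa [app_inv_app] at this
  -- there is a transvection
  obtain ⟨c, hc⟩ : ∃ c, Cen M c := by
    by_contra! hno
    set v := app g u
    set ψ := S.rf v ∘ₗ (app g).toLinearMap with hψdef
    have hgu : app g⁻¹ v = u := app_inv_app g u
    have hψu : ψ u = 2 := S.rf_self hv
    have hψM : hml u ψ ∈ M := by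
      have h1 := mul_mem (mul_mem (inv_mem hg) (hHM (S.refl_mem hv))) hg
      rw [Setup.refl] at h1
      have h2 := hml_conj (S.rf_self hv) g⁻¹
      rw [inv_inv] at h2
      rw [h2, hgu] at h1
      exact h1
    clear_value ψ
    have hperp : ∀ a, Q a ≠ 0 → polar Q u a = 0 → ψ a = 0 := by
      intro a ha hua
      have h1 := hHM (S.refl_mem ha)
      have hau : app (S.refl a) u = -u := by rw [S.refl_apply ha, hua]; simp
      have h2 := mul_mem (mul_mem h1 hψM) (inv_mem h1)
      rw [hml_conj hψu, hau] at h2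
      have h3 : (ψ ∘ₗ (app (S.refl a)⁻¹).toLinearMap) (-u) = 2 := by
        rw [← hau]; exact (C5.comp_inv_app ψ _ u).trans hψu
      rw [← hml_neg h3, neg_neg] at h2
      have h4 := hml_unique hno hu0 hψu (by rw [LinearMap.neg_apply, ← map_neg]; exact h3) hψM h2
      have h5 := LinearMap.congr_fun h4 (app (S.refl a) a)
      rw [LinearMap.neg_apply, LinearMap.comp_apply, LinearEquiv.coe_coe, app_inv_app,
        S.refl_apply ha, map_add, map_neg, map_smul, S.self, mul_div_assoc, div_self ha,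
        mul_one, smul_eq_mul] at h5
      refine mul_left_cancel₀ S.two (?_ : 2 * ψ a = 2 * 0)
      rw [mul_zero]
      linear_combination h5
    obtain ⟨f, w1, hF⟩ := S.fr_of_isotropic hu0 hu
    have h1 := hperp w1 hF.ww hF.ew
    have hQ' : Q (w1 + u) = Q w1 := by
      rw [S.add_eq, hu, S.comm w1 u, hF.ew, add_zero, add_zero]
    have h3 := hperp (w1 + u) (by rw [hQ']; exact hF.ww)
      (by rw [S.add_right, hF.ew, S.self, hu]; ring)
    rw [map_add, h1, hψu, zero_add] at h3
    exact h2 h3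
  -- transitive, or all axes are tangents
  by_cases hp : PtTrans M
  · exact sl_le_of_transitive hp hc
  exfalso
  let Rel : V3 F → V3 F → Prop := fun x y => ∃ h ∈ M, ∃ a : F, a ≠ 0 ∧ app h x = a • y
  have hsymm : ∀ {x y}, Rel x y → Rel y x := by
    rintro x y ⟨h, hh, a, ha, hxy⟩
    refine ⟨h⁻¹, inv_mem hh, a⁻¹, inv_ne_zero ha, ?_⟩
    apply (app h).injective
    rw [app_app_inv, map_smul, hxy, smul_smul, inv_mul_cancel₀ ha, one_smul]
  have htrans : ∀ {x y z}, Rel x y → Rel y z → Rel x z := by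
    rintro x y z ⟨h, hh, a, ha, hxy⟩ ⟨h', hh', b, hb, hyz⟩
    exact ⟨h' * h, mul_mem hh' hh, a * b, mul_ne_zero ha hb, by
      rw [map_mul, LinearEquiv.mul_apply, hxy, map_smul, hyz, smul_smul]⟩
  have hH : ∀ {x y : V3 F}, x ≠ 0 → y ≠ 0 → ∀ a : F, a ≠ 0 → Q x = a ^ 2 * Q y → Rel x y := by
    intro x y hx hy a ha hxy
    obtain ⟨h, hh, b, hb⟩ :=
      S.exists_transit hx (v' := a • y) (smul_ne_zero ha hy) (by rw [hQ.smul, hxy])
    have hb0 : b ≠ 0 := fun h0 => hx ((app h).map_eq_zero_iff.1 (by rw [hb, h0, zero_smul]))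
    exact ⟨h, hHM hh, b * a, mul_ne_zero hb0 ha, by rw [hb, smul_smul]⟩
  obtain ⟨w0, hw0, hw0R⟩ : ∃ w0 : V3 F, w0 ≠ 0 ∧ ¬ Rel w0 u := by
    by_contra! hall
    refine hp fun x y hx hy => ?_
    obtain ⟨h, hh, a, -, hxy⟩ := htrans (hall x hx) (hsymm (hall y hy))
    exact ⟨h, hh, a, hxy⟩
  have hk : Q w0 ≠ 0 := fun h0 => hw0R (hH hw0 hu0 1 one_ne_zero (by rw [h0, hu, mul_zero]))
  have huv : Rel u (app g u) := ⟨g, hg, 1, one_ne_zero, by rw [one_smul]⟩
  have hinv : ∀ h ∈ M, ∀ x, (∃ a : F, a ≠ 0 ∧ Q x = a ^ 2 * Q w0) →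
      ∃ a : F, a ≠ 0 ∧ Q (app h x) = a ^ 2 * Q w0 := by
    rintro h hh x ⟨a, ha, hx⟩
    have hx0 : x ≠ 0 := fun h0 => by
      rw [h0, S.Q_zero] at hx
      exact mul_ne_zero (pow_ne_zero 2 ha) hk hx.symm
    have hy0 : app h x ≠ 0 := fun h0 => hx0 ((app h).map_eq_zero_iff.1 h0)
    have h1 : Rel w0 (app h x) :=
      htrans (hsymm (hH hx0 hw0 a ha hx)) ⟨h, hh, 1, one_ne_zero, by rw [one_smul]⟩
    by_contra! hne
    apply hw0R
    refine htrans h1 ?_
    by_cases hy : Q (app h x) = 0
    · exact hH hy0 hu0 1 one_ne_zero (by rw [hy, hu, mul_zero])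
    -- the two other values are in one square class
    have hns : ∀ {y}, Q y ≠ 0 → (∀ a : F, a ≠ 0 → Q y ≠ a ^ 2 * Q w0) →
        (Q y / Q w0) ^ (Fintype.card F / 2) = -1 := by
      intro y hy hn
      refine (FiniteField.pow_dichotomy hch (div_ne_zero hy hk)).resolve_left fun h1 => ?_
      obtain ⟨r, hr⟩ := (FiniteField.isSquare_iff hch (div_ne_zero hy hk)).2 h1
      refine hn r (fun h0 => div_ne_zero hy hk (by rw [hr, h0, mul_zero])) ?_
      rw [sq, ← hr, div_mul_cancel₀ _ hk]
    refine htrans ?_ (hsymm huv)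
    have hv0 : app g u ≠ 0 := fun h0 => hu0 ((app g).map_eq_zero_iff.1 h0)
    have hva : ∀ a : F, a ≠ 0 → Q (app g u) ≠ a ^ 2 * Q w0 := fun b hb hvb =>
      hw0R (htrans (hsymm (hH hv0 hw0 b hb hvb)) (hsymm huv))
    obtain ⟨r, hr⟩ := (FiniteField.isSquare_iff hch (div_ne_zero hy hv)).2 (by
      rw [← div_div_div_cancel_right₀ hk (Q (app h x)), div_pow, hns hy hne, hns hv hva,
        div_self (neg_ne_zero.2 one_ne_zero)])
    refine hH hy0 hv0 r (fun h0 => div_ne_zero hy hv (by rw [hr, h0, mul_zero])) ?_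
    rw [sq, ← hr, div_mul_cancel₀ _ hv]
  -- every tangent is an axis
  have hA : ∀ x, x ≠ 0 → Q x = 0 → Axis M (S.Bl x) := by
    intro x hx0 hx
    obtain ⟨hc0, φ, hφ0, hφc, hφ⟩ := hc
    obtain ⟨y, hy0, hy, a, rfl⟩ := S.axis_tangent hk hinv (φ := φ) ⟨hφ0, c, hc0, hφc, hφ⟩
    have ha : a ≠ 0 := fun h0 => hφ0 (by rw [h0, zero_smul])
    have hAy : Axis M (S.Bl y) := by
      have := (Axis.smul (M := M) ⟨hφ0, c, hc0, hφc, hφ⟩ (inv_ne_zero ha))
      rwa [smul_smul, inv_mul_cancel₀ ha, one_smul] at this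
    obtain ⟨h, hh, b, hb⟩ := S.exists_transit hy0 hx0 (by rw [hx, hy])
    have hb0 : b ≠ 0 := fun h0 => hy0 ((app h).map_eq_zero_iff.1 (by rw [hb, h0, zero_smul]))
    obtain ⟨m, hm⟩ := hh.1
    have h1 := (hAy.conj (hHM hh)).smul (mul_ne_zero m.ne_zero (inv_ne_zero hb0))
    convert h1 using 1
    refine LinearMap.ext fun z => ?_
    have h4 := S.polar_app (g := h) (c := (m : F)) hm (app h⁻¹ z) y
    rw [app_app_inv, hb, S.smul_right] at h4
    simp only [LinearMap.smul_apply, LinearMap.comp_apply, LinearEquiv.coe_coe, Setup.Bl_apply,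
      smul_eq_mul]
    rw [mul_comm (m : F) b⁻¹, mul_assoc, ← h4, ← mul_assoc, inv_mul_cancel₀ hb0, one_mul]
  -- pull two tangents back
  set v := app g u
  obtain ⟨u', hu'0, hu', a, ha⟩ := S.axis_tangent hk hinv ((hA u hu0 hu).conj hg)
  have hv' : polar Q v u' = 0 := by
    have h1 := LinearMap.congr_fun ha v
    rw [LinearMap.comp_apply, LinearEquiv.coe_coe, app_inv_app, Setup.Bl_apply, S.self, hu,
      mul_zero, LinearMap.smul_apply, Setup.Bl_apply, smul_eq_mul] at h1
    refine (mul_eq_zero.1 h1.symm).resolve_left fun h0 => ?_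
    exact comp_inv_ne_zero (S.Bl_ne_zero hu0) g (by rw [ha, h0, zero_smul])
  obtain ⟨f, w1, hF⟩ := S.fr_of_isotropic hu'0 hu'
  have hexp := S.expand hF v
  rw [hv', zero_smul, add_zero] at hexp
  set β := polar Q v w1 / (2 * Q w1)
  set α := polar Q v f
  have hβ : β ≠ 0 := fun h0 => hv (by
    rw [hexp, h0, zero_smul, add_zero, hQ.smul, hu', mul_zero])
  set y := -α / (2 * β * Q w1)
  set x := -(y ^ 2 * Q w1)
  set w2 := x • u' + f + y • w1
  have hw2 : Q w2 = 0 := by
    rw [S.add_eq, S.add_eq, hQ.smul, hQ.smul, S.smul_left, S.add_left, S.smul_left, S.smul_right,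
      S.smul_right, hu', hF.e'e', hF.ee', hF.ew, hF.e'w]
    ring
  have hfu : polar Q f u' = 1 := (S.comm _ _).trans hF.ee'
  have hwu : polar Q w1 u' = 0 := (S.comm _ _).trans hF.ew
  have hwf : polar Q w1 f = 0 := (S.comm _ _).trans hF.e'w
  have hw2u : polar Q u' w2 = 1 := by
    rw [S.add_right, S.add_right, S.smul_right, S.smul_right, S.self, hu', hF.ee', hF.ew]
    ring
  have hw20 : w2 ≠ 0 := fun h0 => one_ne_zero (hw2u.symm.trans (by rw [h0, S.zero_right]))
  have hw2v : polar Q v w2 = 0 := by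
    rw [hexp, S.add_left, S.smul_left, S.smul_left, hw2u, S.add_right, S.add_right, S.smul_right,
      S.smul_right, S.self, hwu, hwf]
    have : y * (2 * β * Q w1) = -α :=
      div_mul_cancel₀ _ (mul_ne_zero (mul_ne_zero h2 hβ) hF.ww)
    linear_combination this
  obtain ⟨w', hw'0, hw', b, hb⟩ := S.axis_tangent hk hinv ((hA w2 hw20 hw2).conj (inv_mem hg))
  rw [inv_inv] at hb
  have hb0 : b ≠ 0 := fun h0 => by
    have := comp_inv_ne_zero (S.Bl_ne_zero hw20) g⁻¹
    rw [inv_inv] at this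
    exact this (by rw [hb, h0, zero_smul])
  have hw'u : polar Q w' u = 0 := by
    have h1 := LinearMap.congr_fun hb u
    rw [LinearMap.comp_apply, LinearEquiv.coe_coe, Setup.Bl_apply, hw2v, LinearMap.smul_apply,
      Setup.Bl_apply, smul_eq_mul] at h1
    rw [S.comm]
    exact (mul_eq_zero.1 h1.symm).resolve_left hb0
  obtain ⟨r, rfl⟩ := S.eq_smul_of_perp hu0 hu hw' hw'u
  have h1 := LinearMap.congr_fun hb (app g⁻¹ u')
  have h3 := LinearMap.congr_fun ha u'
  rw [LinearMap.comp_apply, LinearEquiv.coe_coe, app_app_inv, Setup.Bl_apply, hw2u,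
    LinearMap.smul_apply, Setup.Bl_apply, S.smul_right, smul_eq_mul] at h1
  rw [LinearMap.comp_apply, LinearEquiv.coe_coe, Setup.Bl_apply, LinearMap.smul_apply,
    Setup.Bl_apply, S.self, hu', mul_zero, smul_zero] at h3
  rw [h3, mul_zero, mul_zero] at h1
  exact one_ne_zero h1

end Cfsg.Agent.SL3Max
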