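/-
The similarities of a unitary form on `F³` are maximal in `SL₃(F)`.
Main results:
* `Frame`, `transit` : SU₃ is transitive on hyperbolic frames
* `unitary_maximal`
-/
import Cfsg.Agent.Lib.SL3Max.Orbits
import Cfsg.Agent.Lib.Transvect.Block
import Cfsg.Agent.Lib.Transvect.UnitForm
import Cfsg.Agent.Lib.PrimeDim.Forms

set_option autoImplicit false
set_option linter.unusedSectionVars false

namespace Cfsg.Agent.SL3Max

open Cfsg.Agent.Transvect Module Matrix

variable {F : Type*} [Field F] [Fintype F] {σ : F ≃+* F} {f : (Fin 3 → F) → (Fin 3 → F) → F}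
  (hf : Cfsg.Geo.IsUnitaryForm σ f)

/-- A hyperbolic pair and an orthogonal vector of norm one. -/
structure Frame (f : (Fin 3 → F) → (Fin 3 → F) → F) (e e' w : Fin 3 → F) : Prop where
  ee : f e e = 0
  e'e' : f e' e' = 0
  ee' : f e e' = 1
  ew : f e w = 0
  e'w : f e' w = 0
  ww : f w w = 1

include hf

lemma exists_perp (a b : Fin 3 → F) : ∃ z, z ≠ 0 ∧ f z a = 0 ∧ f z b = 0 := by
  obtain ⟨z, hz, hz0⟩ := Submodule.exists_mem_ne_zero_of_ne_bot
    (LinearMap.ker_ne_bot_of_finrank_lt (f := (ufl hf a).prod (ufl hf b)) (by simp))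
  rw [LinearMap.mem_ker] at hz
  exact ⟨z, hz0, congrArg Prod.fst hz, congrArg Prod.snd hz⟩

lemma exists_scale {w : Fin 3 → F} (hw : f w w ≠ 0) : ∃ c : F, c ≠ 0 ∧ f (c • w) (c • w) = 1 := by
  obtain ⟨c, hc⟩ := norm_surjective hf.ne_refl hf.involutive (c := (f w w)⁻¹)
    (by rw [map_inv₀, ← hf.herm])
  refine ⟨c, fun h => hw ?_, ?_⟩
  · rw [h, zero_mul] at hc
    exact inv_eq_zero.1 hc.symm
  · rw [hf.smul_left, uf_smul_right hf, ← mul_assoc, hc, inv_mul_cancel₀ hw]

lemma add_smul_self {x e : Fin 3 → F} (he : f e e = 0) (a : F) :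
    f (x + a • e) (x + a • e) = f x x + σ a * f x e + a * f e x := by
  rw [hf.add_left, uf_add_right hf, uf_add_right hf, hf.smul_left, hf.smul_left,
    uf_smul_right hf, uf_smul_right hf, he]
  ring

/-- An isotropic vector has an isotropic partner. -/
lemma exists_partner {e x : Fin 3 → F} (he : f e e = 0) (hx : f e x ≠ 0) :
    ∃ a c : F, c ≠ 0 ∧ f (c • (x + a • e)) (c • (x + a • e)) = 0 ∧ f e (c • (x + a • e)) = 1 := by
  obtain ⟨t, ht⟩ := exists_trace hf
  have hσ : σ (f e x) = f x e := (hf.herm x e).symm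
  have hσ' : σ (f x e) = f e x := (hf.herm e x).symm
  have hxe : f x e ≠ 0 := fun h => hx (uf_symm hf h)
  set a := -σ t * f x x / f e x with ha
  refine ⟨a, σ (f e x)⁻¹, by simpa using hx, ?_, ?_⟩
  · rw [hf.smul_left, uf_smul_right hf, add_smul_self hf he, ha, map_inv₀, map_inv₀, map_div₀,
      map_mul, map_neg, hf.involutive, hf.involutive, hσ, ← hf.herm]
    field_simp
    linear_combination -(f x x) * ht
  · rw [uf_smul_right hf, hf.involutive, uf_add_right hf, uf_smul_right hf, he, mul_zero, add_zero,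
      inv_mul_cancel₀ hx]

/-- Every isotropic vector starts a frame. -/
lemma frame_of_isotropic {e : Fin 3 → F} (he0 : e ≠ 0) (he : f e e = 0) :
    ∃ e' w, Frame f e e' w := by
  obtain ⟨x, hx⟩ := (hf.nondegenerate e he0).2
  obtain ⟨a, c, hc, h1, h2⟩ := exists_partner hf he hx
  set e' := c • (x + a • e)
  obtain ⟨w, hw0, hwe, hwe'⟩ := exists_perp hf e e'
  have hww : f w w ≠ 0 := by
    intro hww
    obtain ⟨y, hy⟩ := (hf.nondegenerate w hw0).2
    have hind : LinearIndependent F ![e, e', w] := by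
      rw [Fintype.linearIndependent_iff]
      intro k hk
      simp only [Fin.sum_univ_three, Matrix.cons_val_zero, Matrix.cons_val_one,
        Matrix.cons_val] at hk
      have q1 := congrArg (ufl hf e') hk
      have q2 := congrArg (ufl hf e) hk
      simp only [map_add, map_smul, map_zero, ufl_apply, he, h1, h2, hwe, hwe', smul_eq_mul,
        mul_zero, mul_one, add_zero, zero_add,
        show f e' e = 1 by rw [hf.herm, h2, map_one]] at q1 q2
      rw [q1, q2, zero_smul, zero_smul, zero_add, zero_add] at hk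
      have q3 := (smul_eq_zero.1 hk).resolve_right hw0
      intro i; fin_cases i <;> assumption
    have hsp := hind.span_eq_top_of_card_eq_finrank (by simp)
    have hz : ufl hf w = 0 := by
      refine LinearMap.ext_on hsp ?_
      rintro _ ⟨i, rfl⟩
      fin_cases i
      · simpa using uf_symm hf hwe
      · simpa using uf_symm hf hwe'
      · simpa using hww
    exact hy (uf_symm hf (LinearMap.congr_fun hz y))
  obtain ⟨k, hk, hk1⟩ := exists_scale hf hww
  refine ⟨e', k • w, he, h1, h2, ?_, ?_, hk1⟩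
  · rw [uf_smul_right hf, uf_symm hf hwe, mul_zero]
  · rw [uf_smul_right hf, uf_symm hf hwe', mul_zero]

/-- Every anisotropic vector ends a frame, up to a scalar. -/
lemma frame_of_anisotropic {w : Fin 3 → F} (hw : f w w ≠ 0) :
    ∃ e e', ∃ k : F, k ≠ 0 ∧ Frame f e e' (k • w) := by
  obtain ⟨k, hk, hk1⟩ := exists_scale hf hw
  obtain ⟨y, hy0, hyw, -⟩ := exists_perp hf w w
  obtain ⟨z, hz0, hzw, hzy⟩ := exists_perp hf w y
  obtain ⟨e, he0, he, hew⟩ : ∃ e, e ≠ 0 ∧ f e e = 0 ∧ f e w = 0 := by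
    by_cases hy : f y y = 0
    · exact ⟨y, hy0, hy, hyw⟩
    by_cases hz : f z z = 0
    · exact ⟨z, hz0, hz, hzw⟩
    obtain ⟨l, hl⟩ := norm_surjective hf.ne_refl hf.involutive (c := -f y y / f z z)
      (by rw [map_div₀, map_neg, ← hf.herm, ← hf.herm])
    refine ⟨y + l • z, ?_, ?_, ?_⟩
    · intro h
      have := congrArg (ufl hf y) h
      rw [map_add, map_smul, map_zero, ufl_apply, ufl_apply, hzy, smul_zero, add_zero] at this
      exact hy this
    · rw [hf.add_left, uf_add_right hf, uf_add_right hf, hf.smul_left, hf.smul_left,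
        uf_smul_right hf, uf_smul_right hf, hzy, uf_symm hf hzy, ← mul_assoc l, hl,
        div_mul_cancel₀ _ hz]
      ring
    · rw [hf.add_left, hf.smul_left, hyw, hzw, mul_zero, add_zero]
  obtain ⟨x0, hx0⟩ := (hf.nondegenerate e he0).2
  set x := x0 - (f x0 w / f w w) • w with hxdef
  have hx : f e x ≠ 0 := by
    rw [hxdef, sub_eq_add_neg, ← neg_smul, uf_add_right hf, uf_smul_right hf, hew, mul_zero,
      add_zero]
    exact hx0
  have hxw : f x w = 0 := by
    rw [hxdef, sub_eq_add_neg, ← neg_smul, hf.add_left, hf.smul_left, neg_mul,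
      div_mul_cancel₀ _ hw, add_neg_cancel]
  obtain ⟨a, c, hc, h1, h2⟩ := exists_partner hf he hx
  refine ⟨e, c • (x + a • e), k, hk, he, h1, h2, ?_, ?_, hk1⟩
  · rw [uf_smul_right hf, hew, mul_zero]
  · rw [hf.smul_left, hf.add_left, hf.smul_left, uf_smul_right hf, uf_smul_right hf, hxw, hew]
    ring

variable {e e' w E E' W : Fin 3 → F} (hF : Frame f e e' w)
include hF

lemma frame_expand (x : Fin 3 → F) :
    x = f x e' • e + f x e • e' + f x w • w := by
  let Ψ : (Fin 3 → F) →ₗ[F] (Fin 3 → F) := LinearMap.pi ![ufl hf e', ufl hf e, ufl hf w]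
  let R : (Fin 3 → F) →ₗ[F] (Fin 3 → F) := Fintype.linearCombination F ![e, e', w]
  have hR : ∀ c, R c = c 0 • e + c 1 • e' + c 2 • w := fun c => by
    simp [R, Fintype.linearCombination_apply, Fin.sum_univ_three]
  have h : Ψ ∘ₗ R = LinearMap.id := LinearMap.ext fun c => funext fun i => by
    have he'e : f e' e = 1 := by rw [hf.herm, hF.ee', map_one]
    simp only [LinearMap.comp_apply, hR, Ψ, LinearMap.pi_apply, LinearMap.id_apply, map_add,
      map_smul]
    fin_cases i <;> simp [hF.ee, hF.e'e', hF.ee', hF.ew, hF.e'w, hF.ww, he'e,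
      uf_symm hf hF.ew, uf_symm hf hF.e'w]
  have h' : R ∘ₗ Ψ = LinearMap.id := (LinearMap.comp_eq_id_comm (f := Ψ) (g := R)).1 h
  have h1 := LinearMap.congr_fun h' x
  rw [LinearMap.comp_apply, hR] at h1
  simpa [Ψ] using h1.symm

/-- SU₃ is transitive on frames, up to a scalar on the last vector. -/
lemma transit (hE : Frame f E E' W) : ∃ g : GL (Fin 3) F,
    g ∈ Cfsg.Geo.similarityGroup f ⊓ Cfsg.Geo.specialLinear (Fin 3) F ∧
      app g e = E ∧ ∃ δ : F, app g w = δ • W := by
  have he'e : f e' e = 1 := by rw [hf.herm, hF.ee', map_one]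
  let T : F → (Fin 3 → F) →ₗ[F] (Fin 3 → F) := fun δ =>
    (ufl hf e').smulRight E + (ufl hf e).smulRight E' + (ufl hf w).smulRight (δ • W)
  have hT : ∀ δ x, T δ x = f x e' • E + f x e • E' + (f x w * δ) • W := fun δ x => by
    simp [T, smul_smul]
  have hiso : ∀ δ, δ * σ δ = 1 → ∀ x y, f (T δ x) (T δ y) = f x y := by
    intro δ hδ x y
    conv_rhs => rw [frame_expand hf hF y]
    rw [hT, hT]
    have hE'E : f E' E = 1 := by rw [hf.herm, hE.ee', map_one]
    simp only [hf.add_left, hf.smul_left, uf_add_right hf, uf_smul_right hf, hE.ee, hE.e'e', hE.ee',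
      hE.ew, hE.e'w, hE.ww, hE'E, uf_symm hf hE.ew, uf_symm hf hE.e'w, map_mul]
    linear_combination (f x w * σ (f y w)) * hδ
  have hinj : ∀ δ, δ * σ δ = 1 → Function.Injective (T δ) := by
    intro δ hδ
    rw [← LinearMap.ker_eq_bot, LinearMap.ker_eq_bot']
    intro x hx
    by_contra hx0
    obtain ⟨y, hy⟩ := (hf.nondegenerate x hx0).2
    exact hy (by rw [← hiso δ hδ, hx, uf_zero_left hf])
  have hdet : ∀ δ g, δ * σ δ = 1 → (∀ x, app g x = T δ x) →
      (g : Matrix (Fin 3) (Fin 3) F).det * σ (g : Matrix (Fin 3) (Fin 3) F).det = 1 := by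
    intro δ g hδ hg
    have hf' := PrimeDim.unitaryForm_eq_sesq hf
    have h := (PrimeDim.sesq_invariant_iff (σ : F →+* F) (Cfsg.Geo.gramMatrix f)
      (g : Matrix (Fin 3) (Fin 3) F) 1).1 fun u v => by
        rw [one_mul, ← hf', ← app_apply, ← app_apply, hg, hg, hiso δ hδ]
    have hG : (Cfsg.Geo.gramMatrix f).det ≠ 0 :=
      PrimeDim.det_ne_zero_of_nondegenerate (σ : F →+* F) (hf' ▸ hf.nondegenerate)
    have h2 := congrArg Matrix.det h
    rw [one_smul, Matrix.det_mul, Matrix.det_mul, Matrix.det_transpose,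
      show ((g : Matrix (Fin 3) (Fin 3) F).map (σ : F →+* F)).det =
        σ (g : Matrix (Fin 3) (Fin 3) F).det from (RingHom.map_det (σ : F →+* F) _).symm] at h2
    refine mul_right_cancel₀ hG ?_
    linear_combination h2
  obtain ⟨g, hg⟩ := exists_app_eq (T 1) (hinj 1 (by simp))
  set D := (g : Matrix (Fin 3) (Fin 3) F).det
  have hD : D * σ D = 1 := hdet 1 g (by simp) hg
  have hD0 : D ≠ 0 := fun h => by rw [h, zero_mul] at hD; exact zero_ne_one hD
  have hDi : D⁻¹ * σ D⁻¹ = 1 := by rw [map_inv₀, ← mul_inv, hD, inv_one]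
  obtain ⟨g', hg'⟩ := exists_app_eq (T D⁻¹) (hinj _ hDi)
  refine ⟨g', ⟨⟨1, fun u v => ?_⟩, ?_⟩, ?_, D⁻¹, ?_⟩
  · rw [← app_apply, ← app_apply, hg', hg', hiso _ hDi, Units.val_one, one_mul]
  · -- `g'` differs from `g` by a scalar on `w`
    change g' ∈ Cfsg.Geo.specialLinear (Fin 3) F
    rw [mem_sl_iff]
    let P : Matrix (Fin 3) (Fin 3) F := (Matrix.of ![e, e', w])ᵀ
    let Q : F → Matrix (Fin 3) (Fin 3) F := fun δ => (Matrix.of ![E, E', δ • W])ᵀ
    have hcols : ∀ δ (g : GL (Fin 3) F), (∀ x, app g x = T δ x) →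
        (g : Matrix (Fin 3) (Fin 3) F) * P = Q δ := by
      intro δ g hg
      ext i j
      have h1 : ((g : Matrix (Fin 3) (Fin 3) F) * P) i j = app g (![e, e', w] j) i := by
        simp [Matrix.mul_apply, P, Matrix.mulVec, dotProduct]
      rw [h1, hg, hT]
      fin_cases j <;> simp [Q, hF.ee, hF.e'e', hF.ee', hF.ew, hF.e'w, hF.ww, he'e,
        uf_symm hf hF.ew, uf_symm hf hF.e'w]
    have hQ : (Q D⁻¹).det = D⁻¹ * (Q 1).det := by
      simp only [Q, Matrix.det_transpose, Matrix.det_fin_three]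
      simp
      ring
    have hP : P.det ≠ 0 := by
      intro h0
      obtain ⟨c, hc0, hc⟩ := Matrix.exists_mulVec_eq_zero_iff.2 h0
      apply hc0
      have hc' : c 0 • e + c 1 • e' + c 2 • w = 0 := by
        rw [← hc]; funext i
        simp [P, Matrix.mulVec, dotProduct, Fin.sum_univ_three, mul_comm]
      have q0 := congrArg (ufl hf e') hc'
      have q1 := congrArg (ufl hf e) hc'
      have q2 := congrArg (ufl hf w) hc'
      simp only [map_add, map_smul, map_zero] at q0 q1 q2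
      simp [hF.ee, hF.e'e', hF.ee', hF.ew, hF.e'w, hF.ww, he'e,
        uf_symm hf hF.ew, uf_symm hf hF.e'w] at q0 q1 q2
      funext i; fin_cases i <;> simpa
    have h1 := congrArg Matrix.det (hcols _ g hg)
    have h2 := congrArg Matrix.det (hcols _ g' hg')
    rw [Matrix.det_mul] at h1 h2
    rw [hQ, ← h1, ← mul_assoc, inv_mul_cancel₀ hD0, one_mul] at h2
    refine mul_right_cancel₀ hP ?_
    rw [h2, one_mul]
  · rw [hg', hT, hF.ee', hF.ee, hF.ew]; simp
  · rw [hg', hT, uf_symm hf hF.e'w, uf_symm hf hF.ew, hF.ww]; simp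

omit hF

/-- An element carrying isotropic vectors to isotropic vectors is a similarity. -/
lemma similarity_of_isotropic {g : GL (Fin 3) F}
    (hiso : ∀ u, f u u = 0 → f (app g u) (app g u) = 0)
    (hiso' : ∀ u, f (app g u) (app g u) = 0 → f u u = 0) :
    g ∈ Cfsg.Geo.similarityGroup f := by
  -- tangents go to tangents
  have htan : ∀ u, u ≠ 0 → f u u = 0 → ∀ x, f x u = 0 → f (app g x) (app g u) = 0 := by
    intro u hu0 hu x hxu
    by_contra hne
    obtain ⟨a, c, hc, h1, -⟩ := exists_partner hf (hiso u hu)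
      (show f (app g u) (app g x) ≠ 0 from fun h => hne (uf_symm hf h))
    rw [← map_smul, ← map_add, ← map_smul] at h1
    have h3 := hiso' _ h1
    obtain ⟨e', w, hFr⟩ := frame_of_isotropic hf hu0 hu
    have hx' : f (x + a • u) (x + a • u) = 0 := by
      rw [hf.smul_left, uf_smul_right hf] at h3
      simpa [hc] using h3
    rw [add_smul_self hf hu, hxu, uf_symm hf hxu, mul_zero, mul_zero, add_zero, add_zero] at hx'
    have hexp := frame_expand hf hFr x
    rw [hxu, zero_smul, add_zero] at hexp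
    rw [hexp] at hx'
    simp only [hf.add_left, hf.smul_left, uf_add_right hf, uf_smul_right hf, hu, hFr.ew, hFr.ww,
      uf_symm hf hFr.ew, mul_zero, zero_add, add_zero, mul_one] at hx'
    have hxw : f x w = 0 := by
      rcases mul_eq_zero.1 hx' with h | h
      · exact h
      · exact σ.injective (h.trans (map_zero σ).symm)
    rw [hxw, zero_smul, add_zero] at hexp
    apply hne
    rw [hexp, map_smul, hf.smul_left, hiso u hu, mul_zero]
  -- isotropic vectors are eigen
  have heig : ∀ u, u ≠ 0 → f u u = 0 → ∃ l : F, ∀ x, f (app g x) (app g u) = l * f x u := by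
    intro u hu0 hu
    obtain ⟨e', w, hFr⟩ := frame_of_isotropic hf hu0 hu
    refine ⟨f (app g e') (app g u), fun x => ?_⟩
    have hd : f (x - f x u • e') u = 0 := by
      rw [sub_eq_add_neg, ← neg_smul, hf.add_left, hf.smul_left,
        show f e' u = 1 by rw [hf.herm, hFr.ee', map_one]]
      ring
    have h2 := htan u hu0 hu _ hd
    rw [sub_eq_add_neg, ← neg_smul, map_add, map_smul, hf.add_left, hf.smul_left] at h2
    linear_combination h2
  obtain ⟨v0, hv0⟩ := exists_ne (0 : Fin 3 → F)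
  obtain ⟨e, he0, he⟩ : ∃ e, e ≠ 0 ∧ f e e = 0 := by
    by_cases h : f v0 v0 = 0
    · exact ⟨v0, hv0, h⟩
    · obtain ⟨e, e', k, -, hFr⟩ := frame_of_anisotropic hf h
      exact ⟨e, fun h => one_ne_zero (by rw [← hFr.ee', h, uf_zero_left hf]), hFr.ee⟩
  obtain ⟨e', w, hFr⟩ := frame_of_isotropic hf he0 he
  have he'e : f e' e = 1 := by rw [hf.herm, hFr.ee', map_one]
  obtain ⟨t, ht⟩ := exists_trace hf
  obtain ⟨d, hd0, hd⟩ := exists_skew' hf
  have he'0 : e' ≠ 0 := fun h => one_ne_zero (by rw [← hFr.ee', h, uf_zero_right hf])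
  obtain ⟨l, hl⟩ := heig e he0 he
  obtain ⟨l', hl'⟩ := heig e' he'0 hFr.e'e'
  have hne : ∀ {u : Fin 3 → F}, f u e' = 1 → u ≠ 0 := fun h h0 => one_ne_zero
    (h.symm.trans (by rw [h0, uf_zero_left hf]))
  -- the isotropic vectors `e + a e' + w`
  have hu : ∀ a : F, a + σ a = -1 →
      ∃ m : F, ∀ x, l * f x e + σ a * (l' * f x e') + f (app g x) (app g w) =
        m * (f x e + σ a * f x e' + f x w) := by
    intro a ha
    have h0 : f (e + a • e' + w) (e + a • e' + w) = 0 := by
      simp only [hf.add_left, hf.smul_left, uf_add_right hf, uf_smul_right hf, hFr.ee, hFr.e'e',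
        hFr.ee', he'e, hFr.ew, hFr.e'w, hFr.ww, uf_symm hf hFr.ew, uf_symm hf hFr.e'w]
      linear_combination ha
    obtain ⟨m, hm⟩ := heig _ (hne (by
      rw [hf.add_left, hf.add_left, hf.smul_left, hFr.ee', hFr.e'e', uf_symm hf hFr.e'w]
      ring)) h0
    refine ⟨m, fun x => ?_⟩
    have h1 := hm x
    rw [map_add, map_add, map_smul, uf_add_right hf, uf_add_right hf, uf_smul_right hf, hl, hl',
      uf_add_right hf, uf_add_right hf, uf_smul_right hf] at h1
    exact h1
  -- `e + d e'` is isotropic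
  obtain ⟨m0, hm0⟩ := heig (e + d • e') (hne (by
      rw [hf.add_left, hf.smul_left, hFr.ee', hFr.e'e', mul_zero, add_zero])) (by
    simp only [hf.add_left, hf.smul_left, uf_add_right hf, uf_smul_right hf, hFr.ee, hFr.e'e',
      hFr.ee', he'e, hd]
    ring)
  have hll : l' = l := by
    have h1 := hm0 e'
    have h2 := hm0 e
    rw [map_add, map_smul, uf_add_right hf, uf_smul_right hf, hl, hl', uf_add_right hf,
      uf_smul_right hf] at h1 h2
    rw [he'e, hFr.e'e', hd] at h1
    rw [he, hFr.ee', hd] at h2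
    have h3 : l = m0 := by linear_combination h1
    have h4 : (l' - m0) * (-d) = 0 := by linear_combination h2
    rw [mul_eq_zero, neg_eq_zero, or_iff_left hd0, sub_eq_zero] at h4
    rw [h4, h3]
  subst hll
  have ha1 : -t + σ (-t) = -1 := by rw [map_neg]; linear_combination -ht
  have ha2 : -t + d + σ (-t + d) = -1 := by rw [map_add, map_neg, hd]; linear_combination -ht
  obtain ⟨m1, hm1⟩ := hu _ ha1
  obtain ⟨m2, hm2⟩ := hu _ ha2
  have hw' : ∀ x, f (app g x) (app g w) = l' * f x w := by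
    have p1 := hm1 e'
    have p2 := hm2 e'
    have q1 := hm1 e
    have q2 := hm2 e
    rw [he'e, hFr.e'e', hFr.e'w] at p1 p2
    rw [he, hFr.ee', hFr.ew] at q1 q2
    have hm : m2 = m1 := by linear_combination p1 - p2
    subst hm
    rw [map_add, hd] at q2
    have hm : (l' - m2) * (-d) = 0 := by linear_combination q2 - q1
    rw [mul_eq_zero, neg_eq_zero, or_iff_left hd0, sub_eq_zero] at hm
    intro x
    have := hm1 x
    rw [← hm] at this
    linear_combination this
  have hl0 : l' ≠ 0 := by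
    intro h0
    obtain ⟨y, hy⟩ := (hf.nondegenerate (app g e)
      (fun h => he0 ((app g).map_eq_zero_iff.1 h))).1
    apply hy
    rw [← app_app_inv g y, hl, h0, zero_mul]
  refine ⟨Units.mk0 l' hl0, fun u v => ?_⟩
  rw [← app_apply, ← app_apply, Units.val_mk0]
  conv_lhs => rw [frame_expand hf hFr v]
  conv_rhs => rw [frame_expand hf hFr v]
  simp only [map_add, map_smul, uf_add_right hf, uf_smul_right hf, hl, hl', hw']
  ring

/-- The similarities of a unitary form on `F³` are maximal. -/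
theorem unitary_maximal : Cfsg.Geo.IsMaximalIn (Cfsg.Geo.specialLinear (Fin 3) F)
    (Cfsg.Geo.similarityGroup f ⊓ Cfsg.Geo.specialLinear (Fin 3) F) := by
  obtain ⟨v0, hv0⟩ := exists_ne (0 : Fin 3 → F)
  obtain ⟨e, he0, he⟩ : ∃ e, e ≠ 0 ∧ f e e = 0 := by
    by_cases h : f v0 v0 = 0
    · exact ⟨v0, hv0, h⟩
    · obtain ⟨e, e', k, -, hFr⟩ := frame_of_anisotropic hf h
      exact ⟨e, fun h => one_ne_zero (by rw [← hFr.ee', h, uf_zero_left hf]), hFr.ee⟩
  obtain ⟨e', w, hFr⟩ := frame_of_isotropic hf he0 he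
  refine isMaximalIn_of_forall inf_le_right ?_ fun M hHM hMK g0 hg0 hg0H => ?_
  · -- an isotropic vector moved off
    refine ⟨tv w (ufl hf e), tv_mem_sl _ _, fun h => ?_⟩
    obtain ⟨c, hc⟩ := h.1
    have h0 : (ufl hf e) w = 0 := uf_symm hf hFr.ew
    have hh := hc e' e'
    rw [← app_apply, tv_apply h0, ufl_apply, show f e' e = 1 by rw [hf.herm, hFr.ee', map_one],
      one_smul, hf.add_left, uf_add_right hf, uf_add_right hf, hFr.e'e', hFr.e'w,
      uf_symm hf hFr.e'w, hFr.ww, mul_zero] at hh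
    simp at hh
  -- transitivity
  have hI : ∀ u u' : Fin 3 → F, u ≠ 0 → u' ≠ 0 → f u u = 0 → f u' u' = 0 →
      ∃ h ∈ M, app h u = u' := by
    intro u u' hu0 hu'0 hu hu'
    obtain ⟨_, _, h1⟩ := frame_of_isotropic hf hu0 hu
    obtain ⟨_, _, h2⟩ := frame_of_isotropic hf hu'0 hu'
    obtain ⟨h, hh, he, -⟩ := transit hf h1 h2
    exact ⟨h, hHM hh, he⟩
  have hA : ∀ u u' : Fin 3 → F, f u u ≠ 0 → f u' u' ≠ 0 → ∃ h ∈ M, ∃ a : F, app h u = a • u' := by
    intro u u' hu hu'
    obtain ⟨_, _, k, hk, h1⟩ := frame_of_anisotropic hf hu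
    obtain ⟨_, _, k', hk', h2⟩ := frame_of_anisotropic hf hu'
    obtain ⟨h, hh, -, δ, hδ⟩ := transit hf h1 h2
    refine ⟨h, hHM hh, k⁻¹ * δ * k', ?_⟩
    rw [map_smul, smul_smul] at hδ
    have := congrArg (k⁻¹ • ·) hδ
    simp only [smul_smul, inv_mul_cancel₀ hk, one_smul] at this
    rw [this, mul_assoc]
  -- some isotropic vector leaves
  obtain ⟨g, hg, u, hu0, hu, hgu⟩ :
      ∃ g ∈ M, ∃ u, u ≠ 0 ∧ f u u = 0 ∧ f (app g u) (app g u) ≠ 0 := by
    by_contra! hall
    refine hg0H ⟨similarity_of_isotropic hf (fun u hu => ?_) (fun u hu => ?_), hMK hg0⟩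
    · by_cases hu0 : u = 0
      · rw [hu0, map_zero, uf_zero_left hf]
      · exact hall g0 hg0 u hu0 hu
    · by_cases hu0 : app g0 u = 0
      · rw [(app g0).map_eq_zero_iff.1 hu0, uf_zero_left hf]
      · have := hall g0⁻¹ (inv_mem hg0) _ hu0 hu
        rwa [app_inv_app] at this
  -- one orbit on points
  have hto : ∀ v : Fin 3 → F, v ≠ 0 → ∃ h ∈ M, ∃ a : F, app h u = a • v := by
    intro v hv
    by_cases hvv : f v v = 0
    · obtain ⟨h, hh, hhu⟩ := hI u v hu0 hv hu hvv
      exact ⟨h, hh, 1, by rw [hhu, one_smul]⟩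
    · obtain ⟨h, hh, a, ha⟩ := hA (app g u) v hgu hvv
      exact ⟨h * g, mul_mem hh hg, a, by rw [map_mul, LinearEquiv.mul_apply, ha]⟩
  have hp : PtTrans M := by
    intro v v' hv hv'
    obtain ⟨h, hh, a, ha⟩ := hto v hv
    obtain ⟨h', hh', b, hb⟩ := hto v' hv'
    have ha0 : a ≠ 0 := fun h0 => hu0 ((app h).map_eq_zero_iff.1 (by rw [ha, h0, zero_smul]))
    refine ⟨h' * h⁻¹, mul_mem hh' (inv_mem hh), a⁻¹ * b, ?_⟩
    have h1 : app h⁻¹ v = a⁻¹ • u := by
      apply (app h).injective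
      rw [app_app_inv, map_smul, ha, smul_smul, inv_mul_cancel₀ ha0, one_smul]
    rw [map_mul, LinearEquiv.mul_apply, h1, map_smul, hb, smul_smul]
  -- a unitary transvection
  obtain ⟨d, hd0, hd⟩ := exists_skew' hf
  refine sl_le_of_transitive hp (c := e) ⟨he0, d • ufl hf e, ?_, by simp [he], hHM ⟨⟨1, fun x y => ?_⟩, tv_mem_sl _ _⟩⟩
  · intro h
    have h1 := LinearMap.congr_fun h e'
    rw [LinearMap.smul_apply, ufl_apply, hf.herm, hFr.ee', map_one] at h1
    simp [hd0] at h1
  · rw [← app_apply, ← app_apply, Units.val_one, one_mul]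
    exact ut_isometry hf he hd x y

end Cfsg.Agent.SL3Max
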